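import Cfsg.Agent.CITExt.Almost
import Cfsg.Agent.CITExt.TwoS.Basic
import Cfsg.Agent.Chars.Burnside
import Cfsg.Agent.S0049
import Cfsg.Agent.S0721

/-!
Groups in which every non-subnormal subgroup whose order has at most two prime divisors has a maximal normaliser.
-/

set_option autoImplicit false
set_option linter.unusedSectionVars false
set_option linter.style.haveILetI false

namespace Cfsg.Lib.MaxNorm

open Subgroup Cfsg.Lib.CITGroups Cfsg.Lib.CITExt

universe u

variable {G : Type u} [Group G] [Finite G]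

/-- the order has at most two prime divisors -/
def TwoPrime (H : Subgroup G) : Prop :=
  ∃ p q : ℕ, p.Prime ∧ q.Prime ∧ ∀ r : ℕ, r.Prime → r ∣ Nat.card ↥H → r = p ∨ r = q

/-- the hypothesis -/
def Hyp (G : Type*) [Group G] : Prop :=
  ∀ H : Subgroup G, ¬ H.IsSubnormal →
    (∃ p q : ℕ, p.Prime ∧ q.Prime ∧ ∀ r : ℕ, r.Prime → r ∣ Nat.card H → r = p ∨ r = q) →
    IsCoatom (normalizer (H : Set G))

theorem twoPrime_of_dvd {H : Subgroup G} {p q a b : ℕ} (hp : p.Prime) (hq : q.Prime)
    (h : Nat.card ↥H ∣ p ^ a * q ^ b) : TwoPrime H := by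
  refine ⟨p, q, hp, hq, fun r hr hd => ?_⟩
  rcases (Nat.Prime.dvd_mul hr).1 (hd.trans h) with e | e
  · exact Or.inl ((Nat.prime_dvd_prime_iff_eq hr hp).1 (hr.dvd_of_dvd_pow e))
  · exact Or.inr ((Nat.prime_dvd_prime_iff_eq hr hq).1 (hr.dvd_of_dvd_pow e))

theorem twoPrime_of_pGroup {H : Subgroup G} {p : ℕ} [hp : Fact p.Prime] (h : IsPGroup p ↥H) : TwoPrime H := by
  obtain ⟨k, hk⟩ := IsPGroup.iff_card.1 h
  exact twoPrime_of_dvd hp.out hp.out (a := k) (b := 0) (by rw [hk, pow_zero, mul_one])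

theorem twoPrime_zpowers {x : G} {p q a b : ℕ} (hp : p.Prime) (hq : q.Prime) (h : orderOf x ∣ p ^ a * q ^ b) :
    TwoPrime (zpowers x) := twoPrime_of_dvd hp hq (by rwa [Nat.card_zpowers])

theorem TwoPrime.mono {H K : Subgroup G} (h : TwoPrime H) (hle : K ≤ H) : TwoPrime K := by
  obtain ⟨p, q, hp, hq, hr⟩ := h
  exact ⟨p, q, hp, hq, fun r h1 h2 => hr r h1 (h2.trans (Subgroup.card_dvd_of_le hle))⟩

theorem TwoPrime.solvable {H : Subgroup G} (h : TwoPrime H) : Group.IsSolvable ↥H := by
  obtain ⟨p, q, hp, hq, hr⟩ := h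
  obtain ⟨q', hq', hne, hr'⟩ : ∃ q' : ℕ, q'.Prime ∧ p ≠ q' ∧ ∀ r, r.Prime → r ∣ Nat.card ↥H → r = p ∨ r = q' := by
    rcases eq_or_ne p q with rfl | hne
    · rcases eq_or_ne p 2 with rfl | h2
      · exact ⟨3, Nat.prime_three, by norm_num, fun r a b => Or.inl (by simpa using hr r a b)⟩
      · exact ⟨2, Nat.prime_two, h2, fun r a b => Or.inl (by simpa using hr r a b)⟩
    · exact ⟨q, hq, hne, hr⟩
  refine Cfsg.Lib.Chars.burnside_isSolvable p q' hp hq' ↥H
    ⟨(Nat.card ↥H).factorization p, (Nat.card ↥H).factorization q', ?_⟩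
  have hsub : (Nat.card ↥H).primeFactors ⊆ {p, q'} := fun r hr1 => by
    obtain ⟨h1, h2, -⟩ := Nat.mem_primeFactors.1 hr1
    simpa using hr' r h1 h2
  conv_lhs => rw [← Nat.prod_factorization_pow_eq_self (Nat.card_pos (α := ↥H)).ne']
  rw [Nat.prod_factorization_eq_prod_primeFactors, Finset.prod_subset hsub fun r _ hr1 => by
    rw [show (Nat.card ↥H).factorization r = 0 from Finsupp.notMem_support_iff.1
      (by rwa [Nat.support_factorization]), pow_zero], Finset.prod_pair hne]

theorem coatom_ne_top {M : Subgroup G} (h : IsCoatom M) : M ≠ ⊤ := h.1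

theorem coatom_eq {M K : Subgroup G} (h : IsCoatom M) (hle : M ≤ K) (hK : K ≠ ⊤) : M = K :=
  hle.eq_or_lt.resolve_right fun hlt => hK (h.2 K hlt)

theorem normalizer_le_of_stable {A B : Subgroup G}
    (h : ∀ g ∈ normalizer (A : Set G), ∀ b ∈ B, g * b * g⁻¹ ∈ B) :
    normalizer (A : Set G) ≤ normalizer (B : Set G) := fun g hg => TwoS.mem_nrm (h g hg)

theorem normalizer_le_sup (H N : Subgroup G) [hN : N.Normal] :
    normalizer (H : Set G) ≤ normalizer ((H ⊔ N : Subgroup G) : Set G) := by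
  refine normalizer_le_of_stable fun g hg b hb => ?_
  have h1 : (H ⊔ N).map (MulAut.conj g).toMonoidHom ≤ H ⊔ N := by
    rw [Subgroup.map_sup]
    refine sup_le_sup (Subgroup.map_le_iff_le_comap.2 fun x hx => ?_) (Subgroup.map_le_iff_le_comap.2 fun x hx => ?_)
    · exact TwoS.nrm_conj hg hx
    · exact hN.conj_mem x hx g
  exact h1 ⟨b, hb, rfl⟩

/-- a normal subgroup normalises every non-subnormal two-prime subgroup with non-normal image -/
theorem Hyp.normalizes (h : Hyp G) {N H : Subgroup G} [N.Normal] (hH : ¬ H.IsSubnormal) (h2 : TwoPrime H)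
    (hn : ¬ (H ⊔ N).Normal) : N ≤ normalizer (H : Set G) := by
  have e := coatom_eq (h H hH h2) (normalizer_le_sup H N) fun e => hn (normalizer_eq_top_iff.1 e)
  rw [e]
  exact le_sup_right.trans le_normalizer

/-- the hypothesis passes to quotients -/
theorem Hyp.quotient (h : Hyp G) (N : Subgroup G) [N.Normal] : Hyp (G ⧸ N) := by
  intro X hX h2
  set π := QuotientGroup.mk' N with hπ
  have hπs : Function.Surjective π := QuotientGroup.mk'_surjective N
  obtain ⟨H, hH, hmin⟩ := Set.Finite.exists_minimal (s := {K : Subgroup G | K.map π = X}) (Set.toFinite _)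
    ⟨X.comap π, map_comap_eq_self_of_surjective hπs X⟩
  change H.map π = X at hH
  have hsub : ¬ H.IsSubnormal := fun hs => hX (hH ▸ hs.quotient)
  have hker : N.subgroupOf H ≤ frattini ↥H := by
    refine le_iInf₂ fun L hL => ?_
    by_contra hne
    have htop : L ⊔ N.subgroupOf H = ⊤ := hL.2 _ (left_lt_sup.2 hne)
    have e : (L.map H.subtype).map π = X := by
      rw [← hH]
      refine le_antisymm (Subgroup.map_mono (map_subtype_le L)) ?_
      rintro _ ⟨x, hx, rfl⟩
      have hx' : (⟨x, hx⟩ : ↥H) ∈ L ⊔ N.subgroupOf H := htop ▸ mem_top _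
      obtain ⟨l, hl, n, hn, hln⟩ := Subgroup.mem_sup_of_normal_right.1 hx'
      refine ⟨(l : G), ⟨l, hl, rfl⟩, ?_⟩
      rw [← show (l : G) * (n : G) = x from congrArg Subtype.val hln, map_mul,
        show π (n : G) = 1 from (QuotientGroup.eq_one_iff _).2 hn, mul_one]
    refine hL.1 (map_injective H.subtype_injective ?_)
    rw [le_antisymm (map_subtype_le L) (hmin e (map_subtype_le L)), ← MonoidHom.range_eq_map, range_subtype]
  have h2' : TwoPrime H := by
    obtain ⟨p, q, hp, hq, hr⟩ := h2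
    refine ⟨p, q, hp, hq, fun r hr1 hr2 => hr r hr1 ?_⟩
    have h1 : r ∣ (frattini ↥H).index := Cfsg.Agent.S0049.result r hr1 hr2
    have h3 : (N.subgroupOf H).index = Nat.card ↥X := by
      rw [← hH, ← relIndex_bot_left, show (⊥ : Subgroup (G ⧸ N)).relIndex (H.map π) = N.relIndex H by
        rw [← relIndex_comap, MonoidHom.comap_bot, QuotientGroup.ker_mk']]
      rfl
    exact h3 ▸ h1.trans (index_dvd_of_le hker)
  have hnn : ¬ (H ⊔ N).Normal := fun hn => by
    refine hX (Normal.isSubnormal ?_)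
    have := hn.map π hπs
    rwa [Subgroup.map_sup, hH, show N.map π = ⊥ from (Subgroup.map_eq_bot_iff _).2 (QuotientGroup.ker_mk' N).ge,
      sup_bot_eq] at this
  have hNH : N ≤ normalizer (H : Set G) := h.normalizes hsub h2' hnn
  have hle : (normalizer (H : Set G)).map π ≤ normalizer (X : Set (G ⧸ N)) := by
    rw [← hH]
    exact le_normalizer_map π
  have hXtop : normalizer (X : Set (G ⧸ N)) ≠ ⊤ := fun e => hX (normalizer_eq_top_iff.1 e).isSubnormal
  have hc := h H hsub h2'
  have e1 : (normalizer (X : Set (G ⧸ N))).comap π = normalizer (H : Set G) := by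
    refine (coatom_eq hc (Subgroup.map_le_iff_le_comap.1 hle) fun e => hXtop ?_).symm
    rw [← map_comap_eq_self_of_surjective hπs (normalizer (X : Set (G ⧸ N))), e, map_top_of_surjective π hπs]
  refine ⟨hXtop, fun K hK => ?_⟩
  have hlt : normalizer (H : Set G) < K.comap π := e1 ▸ (comap_lt_comap_of_surjective hπs).2 hK
  rw [← map_comap_eq_self_of_surjective hπs K, hc.2 _ hlt, map_top_of_surjective π hπs]

/-- the almost simple situation -/
structure Soc (T : Subgroup G) : Prop where
  normal : T.Normal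
  simple : IsSimpleGroup ↥T
  nonab : ¬ IsMulCommutative ↥T
  cent : centralizer (T : Set G) = ⊥
  max : ∀ H : Subgroup G, H ≠ ⊥ → TwoPrime H → IsCoatom (normalizer (H : Set G))

theorem not_solvable_of_simple {T : Subgroup G} [IsSimpleGroup ↥T] (hna : ¬ IsMulCommutative ↥T) :
    ¬ Group.IsSolvable ↥T := fun hs =>
  hna ⟨⟨fun a b => IsSimpleGroup.comm_iff_isSolvable.2 hs a b⟩⟩

theorem le_of_subnormal {T : Subgroup G} [hTn : T.Normal] [IsSimpleGroup ↥T]
    (hC : centralizer (T : Set G) = ⊥) {K : Subgroup G} (hs : K.IsSubnormal) (hK : K ≠ ⊥) : T ≤ K := by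
  induction hs with
  | top => exact le_top
  | step A B hAB _ hn ih =>
    have hTB : T ≤ B := ih fun e => hK (le_bot_iff.1 (e ▸ hAB))
    have hconj : ∀ b ∈ B, ∀ a ∈ A, b * a * b⁻¹ ∈ A := fun b hb a ha =>
      hn.conj_mem ⟨a, hAB ha⟩ ha ⟨b, hb⟩
    have hnorm : (A.subgroupOf T).Normal := ⟨fun a ha x => hconj x (hTB x.2) a ha⟩
    rcases IsSimpleGroup.eq_bot_or_eq_top_of_normal _ hnorm with e | e
    · exfalso
      refine hK (le_bot_iff.1 (hC ▸ fun a ha => ?_))
      refine mem_centralizer_iff.2 fun x hx => ?_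
      have h1 : x * a * x⁻¹ * a⁻¹ ∈ A ⊓ T := by
        refine ⟨A.mul_mem (hconj x (hTB hx) a ha) (A.inv_mem ha), ?_⟩
        rw [show x * a * x⁻¹ * a⁻¹ = x * (a * x⁻¹ * a⁻¹) by group]
        exact T.mul_mem hx (hTn.conj_mem _ (T.inv_mem hx) a)
      have h2 : (⟨_, h1.2⟩ : ↥T) ∈ A.subgroupOf T := h1.1
      rw [e, mem_bot] at h2
      have h3 : x * a * x⁻¹ * a⁻¹ = 1 := congrArg Subtype.val h2
      exact mul_inv_eq_iff_eq_mul.1 (mul_inv_eq_one.1 h3)
    · exact subgroupOf_eq_top.1 e

/-- without solvable normal subgroups the socle is simple -/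
theorem Hyp.exists_soc (h : Hyp G) (hns : ¬ Group.IsSolvable G)
    (hrad : ∀ N : Subgroup G, N.Normal → Group.IsSolvable ↥N → N = ⊥) : ∃ T : Subgroup G, Soc T := by
  classical
  haveI : Nontrivial G := by
    rcases subsingleton_or_nontrivial G with hs | hn
    · exact absurd (Group.isSolvable_of_comm fun a b => Subsingleton.elim _ _) hns
    · exact hn
  obtain ⟨N, hN, -, hne, hmin⟩ := exists_minimal_normal (normal_top : (⊤ : Subgroup G).Normal) top_ne_bot
  haveI := hN
  obtain ⟨S, iS, m, hS, hm, ⟨e⟩⟩ := Cfsg.Agent.S0721.result N hne hmin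
  haveI := hS
  haveI : Finite (Fin m → S) := Finite.of_equiv _ e.toEquiv
  set i : Fin m := ⟨0, hm⟩
  let f : S →* ↥N := e.symm.toMonoidHom.comp (MonoidHom.mulSingle (fun _ => S) i)
  have hf : Function.Injective f := e.symm.injective.comp (Pi.mulSingle_injective (M := fun _ : Fin m => S) i)
  set T := f.range.map N.subtype with hT
  let eT : S ≃* ↥T := (MonoidHom.ofInjective hf).trans (f.range.equivMapOfInjective _ N.subtype_injective)
  haveI : IsSimpleGroup ↥T := eT.isSimpleGroup_congr.mp hS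
  have hTN : T ≤ N := map_subtype_le _
  have hNs : ¬ Group.IsSolvable ↥N := fun hs => hne (hrad N hN hs)
  have hSs : ¬ Group.IsSolvable S := fun hs => by
    haveI := hs
    haveI : Group.IsSolvable (Fin m → S) := Group.isSolvable_of_comm fun a b => funext fun j =>
      IsSimpleGroup.comm_iff_isSolvable.2 hs (a j) (b j)
    exact hNs (Group.isSolvable_of_surjective e.symm.surjective (f := e.symm.toMonoidHom))
  have hTs : ¬ Group.IsSolvable ↥T := fun hs => by
    haveI := hs
    exact hSs (Group.isSolvable_of_surjective eT.symm.surjective (f := eT.symm.toMonoidHom))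
  -- normal in the minimal normal subgroup
  have hTn : ∀ x ∈ N, ∀ y ∈ T, x * y * x⁻¹ ∈ T := by
    rintro x hx _ ⟨_, ⟨a, rfl⟩, rfl⟩
    refine ⟨f (e ⟨x, hx⟩ i * a * (e ⟨x, hx⟩ i)⁻¹), ⟨_, rfl⟩, ?_⟩
    show ((f _ : ↥N) : G) = x * ((f a : ↥N) : G) * x⁻¹
    rw [show x * ((f a : ↥N) : G) * x⁻¹ = ((⟨x, hx⟩ * f a * ⟨x, hx⟩⁻¹ : ↥N) : G) by simp]
    congr 1
    apply e.injective
    funext j
    by_cases hj : j = i
    · subst hj
      simp [f]
    · simp [f, hj]
  obtain ⟨p, hp, hpd⟩ := Nat.exists_prime_and_dvd (n := Nat.card ↥T)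
    (fun e1 => hTs (by haveI := (Nat.card_eq_one_iff_unique.1 e1).1; infer_instance))
  haveI := Fact.mk hp
  obtain ⟨y, hy⟩ := exists_prime_orderOf_dvd_card' (G := ↥T) p hpd
  set H := zpowers (y : G) with hHdef
  have hy' : orderOf (y : G) = p := by rw [orderOf_coe, hy]
  have hH1 : H ≠ ⊥ := fun e1 => by
    rw [hHdef, zpowers_eq_bot] at e1
    rw [e1, orderOf_one] at hy'
    exact hp.one_lt.ne hy'
  have hHT : H ≤ T := zpowers_le.2 y.2
  have hH2 : TwoPrime H := twoPrime_zpowers hp hp (a := 1) (b := 0) (by rw [hy']; simp)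
  have hHsub : ¬ H.IsSubnormal := fun hs => by
    rcases (hs.subgroupOf (K := T)).eq_bot_or_top_of_isSimpleGroup inferInstance with e1 | e1
    · rw [subgroupOf_eq_bot] at e1
      exact hH1 (le_bot_iff.1 (e1.le_bot.trans' (le_inf le_rfl hHT)))
    · have h1 := hH2.mono (subgroupOf_eq_top.1 e1)
      exact hTs h1.solvable
  have hTnorm : T.Normal := by
    by_contra hnn
    have hle : normalizer (H : Set G) ≤ normalizer (T : Set G) := by
      refine normalizer_le_of_stable fun g hg b hb => ?_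
      set T' := T.map (MulAut.conj g).toMonoidHom with hT'
      have hT'n : ∀ x ∈ N, ∀ z ∈ T', x * z * x⁻¹ ∈ T' := by
        rintro x hx _ ⟨z, hz, rfl⟩
        refine ⟨(g⁻¹ * x * g) * z * (g⁻¹ * x * g)⁻¹, hTn _ ?_ z hz, by simp [mul_assoc]⟩
        simpa using hN.conj_mem x hx g⁻¹
      have hnorm : ((T ⊓ T').subgroupOf T).Normal :=
        ⟨fun a ha x => ⟨(T.mul_mem (T.mul_mem x.2 a.2) (T.inv_mem x.2) : _), hT'n x (hTN x.2) a ha.2⟩⟩
      have hTT' : T ≤ T' := by
        rcases IsSimpleGroup.eq_bot_or_eq_top_of_normal _ hnorm with e1 | e1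
        · exfalso
          refine hH1 (le_bot_iff.1 fun z hz => ?_)
          have h1 : (⟨z, hHT hz⟩ : ↥T) ∈ (T ⊓ T').subgroupOf T := by
            refine ⟨hHT hz, g⁻¹ * z * g, hHT ?_, by simp [mul_assoc]⟩
            simpa using TwoS.nrm_conj (inv_mem hg) hz
          rw [e1, mem_bot] at h1
          exact congrArg Subtype.val h1
        · exact (subgroupOf_eq_top.1 e1).trans inf_le_right
      have he : T = T' := Subgroup.eq_of_le_of_card_ge hTT'
        (card_map_of_injective (MulAut.conj g).injective).le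
      exact he ▸ ⟨b, hb, rfl⟩
    have e1 := coatom_eq (h H hHsub hH2) hle fun e1 => hnn (normalizer_eq_top_iff.1 e1)
    have hTH : T ≤ normalizer (H : Set G) := e1 ▸ le_normalizer
    have hnorm : (H.subgroupOf T).Normal := ⟨fun a ha x =>
      show ((x * a * x⁻¹ : ↥T) : G) ∈ H from TwoS.nrm_conj (K := H) (hTH x.2) ha⟩
    rcases IsSimpleGroup.eq_bot_or_eq_top_of_normal _ hnorm with e2 | e2
    · rw [subgroupOf_eq_bot] at e2
      exact hH1 (le_bot_iff.1 (e2.le_bot.trans' (le_inf le_rfl hHT)))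
    · exact hTs (hH2.mono (subgroupOf_eq_top.1 e2)).solvable
  haveI := hTnorm
  have hna : ¬ IsMulCommutative ↥T := fun hc => hTs (Group.isSolvable_of_comm fun a b => hc.1.1 a b)
  have hC : centralizer (T : Set G) = ⊥ := by
    by_contra hCne
    have hodd : ∀ K : Subgroup G, K.Normal → K ≠ ⊥ → 2 ∣ Nat.card ↥K := fun K hK hK1 => by
      by_contra ho
      exact hK1 (hrad K hK (Cfsg.Agent.PF.isSolvable_of_odd _ (Nat.not_even_iff_odd.1 fun e1 => ho e1.two_dvd)))
    haveI : Fact (Nat.Prime 2) := ⟨Nat.prime_two⟩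
    set C := centralizer (T : Set G) with hCdef
    have hTne : T ≠ ⊥ := fun e1 => hH1 (le_bot_iff.1 (e1 ▸ hHT))
    obtain ⟨a, ha⟩ := exists_prime_orderOf_dvd_card' (G := ↥T) 2 (hodd T hTnorm hTne)
    obtain ⟨b, hb⟩ := exists_prime_orderOf_dvd_card' (G := ↥C) 2 (hodd C inferInstance hCne)
    rw [← orderOf_coe] at ha hb
    have hTC : ∀ x ∈ T, x ∈ C → x = 1 := fun x hx hxC => by
      have h1 : (⟨x, hx⟩ : ↥T) ∈ center ↥T := mem_center_iff.2 fun z =>
        Subtype.ext (mem_centralizer_iff.1 hxC z z.2)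
      rcases IsSimpleGroup.eq_bot_or_eq_top_of_normal (center ↥T) inferInstance with e1 | e1
      · rw [e1, mem_bot] at h1
        exact congrArg Subtype.val h1
      · exact absurd ⟨⟨fun u v => (mem_center_iff.1 (e1 ▸ mem_top u) v).symm⟩⟩ hna
    set c := (a : G) * b with hc
    have hab : Commute (a : G) b := mem_centralizer_iff.1 b.2 a a.2
    have hc2 : c * c = 1 := by
      rw [hc, show (a : G) * b * ((a : G) * b) = (a : G) * a * ((b : G) * b) from hab.symm.mul_mul_mul_comm _ _,
        mul_self_of_two ha, mul_self_of_two hb, one_mul]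
    have hcT : c ∉ T := fun hcT => by
      have := hTC b (by simpa [hc] using T.mul_mem (T.inv_mem a.2) hcT) b.2
      rw [this, orderOf_one] at hb
      exact absurd hb (by norm_num)
    have hcC : c ∉ C := fun hcC => by
      have := hTC a a.2 (by simpa [hc] using C.mul_mem hcC (C.inv_mem b.2))
      rw [this, orderOf_one] at ha
      exact absurd ha (by norm_num)
    have hco : orderOf c = 2 := orderOf_eq_prime (by rw [pow_two, hc2]) fun e1 => hcT (e1 ▸ T.one_mem)
    have hmem : ∀ z ∈ zpowers c, z = 1 ∨ z = c := fun z hz => by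
      obtain ⟨n, rfl⟩ := mem_zpowers_iff.1 hz
      rcases Int.even_or_odd n with ⟨k, rfl⟩ | ⟨k, rfl⟩
      · exact Or.inl (by rw [← two_mul, _root_.zpow_mul, zpow_two, hc2, one_zpow])
      · exact Or.inr (by rw [zpow_add_one, _root_.zpow_mul, zpow_two, hc2, one_zpow, one_mul])
    have hKsub : ¬ (zpowers c).IsSubnormal := fun hs => by
      have hCT : ∀ z ∈ zpowers c, z ∈ T → z = 1 := fun z hz hzT =>
        (hmem z hz).resolve_right fun e1 => hcT (e1 ▸ hzT)
      -- a subnormal subgroup meeting `T` trivially centralises it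
      have key : ∀ K : Subgroup G, K.IsSubnormal → (∀ z ∈ K, z ∈ T → z = 1) → K ≤ C ∨ T ≤ K := by
        intro K hK
        induction hK with
        | top => exact fun _ => Or.inr le_top
        | step A B hAB hBs hn ih =>
          intro hA
          by_cases hTB : T ≤ B
          · refine Or.inl fun x hx => mem_centralizer_iff.2 fun z hz => ?_
            have h1 : z * x * z⁻¹ * x⁻¹ ∈ A := A.mul_mem (hn.conj_mem ⟨x, hAB hx⟩ hx ⟨z, hTB hz⟩) (A.inv_mem hx)
            have h2 : z * x * z⁻¹ * x⁻¹ ∈ T := by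
              rw [show z * x * z⁻¹ * x⁻¹ = z * (x * z⁻¹ * x⁻¹) by group]
              exact T.mul_mem hz (hTnorm.conj_mem _ (T.inv_mem hz) x)
            exact mul_inv_eq_iff_eq_mul.1 (mul_inv_eq_one.1 (hA _ h1 h2))
          · rcases eq_or_ne (B ⊓ T) ⊥ with e1 | e1
            · rcases ih (fun z hz hzT => mem_bot.1 (e1 ▸ mem_inf.2 ⟨hz, hzT⟩)) with e2 | e2
              · exact Or.inl (hAB.trans e2)
              · exact absurd e2 hTB
            · exfalso
              have hs' : (B.subgroupOf T).IsSubnormal := hBs.subgroupOf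
              rcases hs'.eq_bot_or_top_of_isSimpleGroup inferInstance with e2 | e2
              · exact e1 (le_bot_iff.1 ((subgroupOf_eq_bot.1 e2).le_bot))
              · exact hTB (subgroupOf_eq_top.1 e2)
      rcases key _ hs hCT with e1 | e1
      · exact hcC (e1 (mem_zpowers c))
      · exact hH1 (le_bot_iff.1 fun z hz => mem_bot.2 (hCT z (e1 (hHT hz)) (hHT hz)))
    have hCnn : ¬ (zpowers c ⊔ C).Normal := fun hn => by
      -- its intersection with `T` is the group of order two
      have haK : (a : G) ∈ zpowers c ⊔ C := by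
        have := mul_mem (mem_sup_left (T := C) (mem_zpowers c)) (mem_sup_right (S := zpowers c) (C.inv_mem b.2))
        simpa [hc] using this
      have hK : ∀ z ∈ zpowers c ⊔ C, z ∈ T → z = 1 ∨ z = a := by
        intro z hz hzT
        obtain ⟨l, hl, k, hk, rfl⟩ := Subgroup.mem_sup_of_normal_right.1 hz
        rcases hmem l hl with rfl | rfl
        · exact Or.inl (by rw [one_mul] at hzT ⊢; exact hTC k hzT hk)
        · right
          have h1 : (b : G) * k = 1 := by
            refine hTC _ ?_ (C.mul_mem b.2 hk)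
            have := T.mul_mem (T.inv_mem a.2) hzT
            simpa [hc, mul_assoc] using this
          rw [hc, mul_assoc, h1, mul_one]
      refine absurd (hTC a a.2 (mem_centralizer_iff.2 fun x hx => ?_)) fun e1 => by
        rw [e1, orderOf_one] at ha
        exact absurd ha (by norm_num)
      rcases hK (x * a * x⁻¹) (hn.conj_mem _ haK x) (T.mul_mem (T.mul_mem hx a.2) (T.inv_mem hx)) with e1 | e1
      · rw [conj_eq_one_iff.1 e1, orderOf_one] at ha
        exact absurd ha (by norm_num)
      · exact mul_inv_eq_iff_eq_mul.1 e1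
    have hnorm := h.normalizes hKsub (twoPrime_zpowers Nat.prime_two Nat.prime_two (a := 1) (b := 0) (by rw [hco]; simp)) hCnn
    -- so `b` is central in the centraliser
    have hbZ : ∀ x ∈ C, x * b * x⁻¹ = b := fun x hx => by
      rcases hmem _ (TwoS.nrm_conj (hnorm hx) (mem_zpowers c)) with e1 | e1
      · exact absurd ((conj_eq_one_iff.1 e1).symm ▸ T.one_mem) hcT
      · rw [hc, show x * ((a : G) * b) * x⁻¹ = (x * (a : G) * x⁻¹) * (x * b * x⁻¹) by group,
          show x * (a : G) * x⁻¹ = a by rw [(mem_centralizer_iff.1 hx a a.2).symm, mul_inv_cancel_right]] at e1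
        exact mul_left_cancel e1
    have hZn : ((center ↥C).map C.subtype).Normal := inferInstance
    have hb1 : (b : G) ∈ (center ↥C).map C.subtype := ⟨b, mem_center_iff.2 fun x =>
      Subtype.ext (mul_inv_eq_iff_eq_mul.1 (hbZ x x.2)), rfl⟩
    have hZs : Group.IsSolvable ↥((center ↥C).map C.subtype) := by
      haveI : Group.IsSolvable ↥(center ↥C) := Group.isSolvable_of_comm fun u v =>
        Subtype.ext (mem_center_iff.1 v.2 u)
      exact Group.isSolvable_of_surjective (f := (C.subtype.subgroupMap (center ↥C)))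
        (C.subtype.subgroupMap_surjective _)
    rw [hrad _ hZn hZs, mem_bot] at hb1
    rw [hb1, orderOf_one] at hb
    exact absurd hb (by norm_num)
  refine ⟨T, hTnorm, inferInstance, hna, hC, fun K hK h2 => h K (fun hs => ?_) h2⟩
  exact hTs (h2.mono (le_of_subnormal hC hs hK)).solvable

end Cfsg.Lib.MaxNorm
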