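import Cfsg.Agent.MaxNorm.Dihedral
import Cfsg.Agent.CITExt.TwoS.Degree
import Cfsg.Agent.Transfer.Basic
import Cfsg.Agent.S0107
import Cfsg.Agent.S0206

/-!
An involution commuting with an element of odd order.
-/

set_option autoImplicit false
set_option linter.unusedSectionVars false
set_option linter.style.haveILetI false

namespace Cfsg.Lib.MaxNorm

open Subgroup Cfsg.Lib.CITGroups Cfsg.Lib.CITExt
open Cfsg.Lib.CITExt.TwoS (OX ox_le ox_odd ox_conj mem_nrm nrm_conj inv_of_fpf)

universe u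

variable {G : Type u} [Group G] [Finite G] {T : Subgroup G}

theorem exists_prime_pow {y : G} (hodd : Odd (orderOf y)) (hy1 : y ≠ 1) :
    ∃ (r k : ℕ), r.Prime ∧ r ≠ 2 ∧ orderOf (y ^ k) = r := by
  obtain ⟨r, hr, hd⟩ := Nat.exists_prime_and_dvd (n := orderOf y) fun e => hy1 (orderOf_eq_one_iff.1 e)
  exact ⟨r, orderOf y / r, hr, fun e => Nat.not_even_iff_odd.2 hodd (even_iff_two_dvd.2 (e ▸ hd)),
    orderOf_pow_orderOf_div (orderOf_pos y).ne' hd⟩

theorem odd_of_ox {t y : G} (hy : y ∈ OX (centralizer ({t} : Set G))) : Odd (orderOf y) :=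
  (ox_odd _).of_dvd_nat ((Subgroup.orderOf_dvd_natCard _ hy))

theorem ne_one_of_two {t : G} (ht : orderOf t = 2) : t ≠ 1 := fun e => by
  rw [e, orderOf_one] at ht
  exact absurd ht (by norm_num)

/-- involutions with a common centralised element of odd order have equal centralisers -/
theorem Soc.cent_eq_of_comm (h : Soc T) {a b y : G} (ha : orderOf a = 2) (hb : orderOf b = 2)
    (hy : Odd (orderOf y)) (hy1 : y ≠ 1) (hay : Commute y a) (hby : Commute y b) :
    centralizer ({a} : Set G) = centralizer ({b} : Set G) := by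
  obtain ⟨r, k, hr, hr2, hk⟩ := exists_prime_pow hy hy1
  have hk1 : y ^ k ≠ 1 := fun e => hr.one_lt.ne (by rw [← hk, e, orderOf_one])
  exact ((h.odd_part ha hr hr2 (hk.trans (pow_one r).symm) hk1 (hay.pow_left k)).1.symm.trans
    (h.odd_part hb hr hr2 (hk.trans (pow_one r).symm) hk1 (hby.pow_left k)).1)

theorem Soc.mem_of_cent_eq {a b : G} (e : centralizer ({a} : Set G) = centralizer ({b} : Set G)) :
    Commute a b := by
  have : a ∈ centralizer ({b} : Set G) := e ▸ mem_centralizer_singleton_iff.2 rfl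
  exact mem_centralizer_singleton_iff.1 this

/-- distinct conjugate involutions have distinct centralisers -/
theorem Soc.cent_conj_ne (h : Soc T) {t g : G} (ht : orderOf t = 2) (hne : g * t * g⁻¹ ≠ t) :
    centralizer ({g * t * g⁻¹} : Set G) ≠ centralizer ({t} : Set G) := by
  intro e
  refine hne (mul_inv_eq_iff_eq_mul.2 (mem_centralizer_singleton_iff.1 (h.cent_self_norm ht (mem_nrm fun k hk => ?_))))
  rw [← e]
  refine mem_centralizer_singleton_iff.2 ?_
  have := (show Commute k t from mem_centralizer_singleton_iff.1 hk).map (MulAut.conj g).toMonoidHom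
  simpa using this.eq

/-- a square root of an involution commutes with what that involution centralises -/
theorem Soc.root_comm (h : Soc T) {a x w : G} {r : ℕ} (ha : orderOf a = 2) (hr : r.Prime) (hr2 : r ≠ 2)
    (hw : orderOf w = r) (hwa : Commute w a) (hx : x * x = a) : Commute x w := by
  have hw1 : w ≠ 1 := fun e => hr.one_lt.ne (by rw [← hw, e, orderOf_one])
  obtain ⟨eN, -⟩ := h.odd_part ha hr hr2 (hw.trans (pow_one r).symm) hw1 hwa
  have ho : orderOf x ∣ 2 ^ 2 * 2 ^ 0 := by
    refine orderOf_dvd_of_pow_eq_one ?_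
    rw [show (2 : ℕ) ^ 2 * 2 ^ 0 = 2 * 2 by norm_num, pow_mul, pow_two x, hx, pow_two, mul_self_of_two ha]
  have e2 : normalizer ((zpowers x : Subgroup G) : Set G) = centralizer ({a} : Set G) := by
    rw [h.pow_eq Nat.prime_two Nat.prime_two ho (k := 2) (by rw [pow_two, hx]; exact ne_one_of_two ha), pow_two, hx,
      normalizer_involution ha]
  have h1 : x * w * x⁻¹ * w⁻¹ ∈ zpowers w := by
    refine mul_mem (nrm_conj ?_ (mem_zpowers w)) (inv_mem (mem_zpowers w))
    rw [eN, ← e2]
    exact le_normalizer (mem_zpowers x)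
  have h2 : x * w * x⁻¹ * w⁻¹ ∈ zpowers x := by
    rw [show x * w * x⁻¹ * w⁻¹ = x * (w * x⁻¹ * w⁻¹) by group]
    refine mul_mem (mem_zpowers x) (nrm_conj ?_ (inv_mem (mem_zpowers x)))
    rw [e2, ← eN]
    exact le_normalizer (mem_zpowers w)
  have hd1 : orderOf (x * w * x⁻¹ * w⁻¹) ∣ r := hw ▸ orderOf_dvd_of_mem_zpowers h1
  have hd2 : orderOf (x * w * x⁻¹ * w⁻¹) ∣ 2 ^ 2 := by simpa using (orderOf_dvd_of_mem_zpowers h2).trans ho
  have h3 := Nat.eq_one_of_dvd_coprimes
    (Nat.Coprime.pow_right 2 ((Nat.coprime_primes hr Nat.prime_two).2 hr2)) hd1 hd2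
  exact mul_inv_eq_iff_eq_mul.1 (mul_inv_eq_one.1 (orderOf_eq_one_iff.1 h3))

section

variable {t z : G} {r : ℕ}

/-- apart from `t` no involution of its centraliser has the same centraliser -/
theorem Soc.inverts (h : Soc T) (ht : orderOf t = 2) (hr : r.Prime) (hr2 : r ≠ 2) (hz : orderOf z = r)
    (hzt : Commute z t) {a : G} (ha : orderOf a = 2) (hat : Commute a t) (hne : a ≠ t) :
    centralizer ({a} : Set G) ≠ centralizer ({t} : Set G) ∧
      ∀ y ∈ OX (centralizer ({t} : Set G)), a * y * a⁻¹ = y⁻¹ := by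
  have hz1 : z ≠ 1 := fun e => hr.one_lt.ne (by rw [← hz, e, orderOf_one])
  suffices hC : centralizer ({a} : Set G) ≠ centralizer ({t} : Set G) by
    refine ⟨hC, inv_of_fpf (mul_self_of_two ha) (fun y hy => ox_conj (mem_centralizer_singleton_iff.2 hat.eq) y hy)
      fun y hy hc => ?_⟩
    by_contra hy1
    exact hC (h.cent_eq_of_comm ha ht (odd_of_ox hy) hy1 hc.symm (mem_centralizer_singleton_iff.1 (ox_le _ hy)))
  intro e
  obtain ⟨g, hg, hgt⟩ := h.exists_fused ht
  set i := g * t * g⁻¹ with hi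
  have hio : orderOf i = 2 := by rw [hi, ← MulAut.conj_apply, MulEquiv.orderOf_eq, ht]
  have hiC : centralizer ({i} : Set G) ≠ centralizer ({t} : Set G) := h.cent_conj_ne ht hg
  set w := g * z * g⁻¹ with hw
  have hwo : orderOf w = r := by rw [hw, ← MulAut.conj_apply, MulEquiv.orderOf_eq, hz]
  have hw1 : w ≠ 1 := fun e1 => hr.one_lt.ne (by rw [← hwo, e1, orderOf_one])
  have hwi : Commute w i := by simpa [hw, hi] using hzt.map (MulAut.conj g).toMonoidHom
  have hwO := (h.odd_part hio hr hr2 (hwo.trans (pow_one r).symm) hw1 hwi).2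
  have hai : Commute a i := by
    have : i ∈ centralizer ({a} : Set G) := e.symm ▸ mem_centralizer_singleton_iff.2 hgt.eq
    exact (show Commute i a from mem_centralizer_singleton_iff.1 this).symm
  have hwodd : Odd (orderOf w) := hwo ▸ hr.odd_of_ne_two hr2
  have inv : ∀ b : G, orderOf b = 2 → Commute b i → centralizer ({b} : Set G) = centralizer ({t} : Set G) →
      b * w * b⁻¹ = w⁻¹ := by
    intro b hb hbi hbC
    refine inv_of_fpf (mul_self_of_two hb) (fun y hy => ox_conj (mem_centralizer_singleton_iff.2 hbi.eq) y hy)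
      (fun y hy hc => ?_) w hwO
    by_contra hy1
    exact hiC ((h.cent_eq_of_comm hio hb (odd_of_ox hy) hy1
      (mem_centralizer_singleton_iff.1 (ox_le _ hy)) hc.symm).trans hbC)
  have h1 := inv t ht hgt.symm rfl
  have h2 := inv a ha hai e
  have hc : Commute (t * a) w := by
    refine mul_inv_eq_iff_eq_mul.1 ?_
    rw [show t * a * w * (t * a)⁻¹ = t * (a * w * a⁻¹) * t⁻¹ by group, h2, ← conj_inv, h1, inv_inv]
  set c := t * a with hcdef
  have hc1 : c ≠ 1 := fun e1 => hne (by rw [eq_inv_of_mul_eq_one_right e1, inv_eq_of_mul_eq_one_right (mul_self_of_two ht)])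
  have hco : orderOf c = 2 := orderOf_eq_prime (by
    rw [pow_two, hcdef, hat.mul_mul_mul_comm t a, mul_self_of_two ht, mul_self_of_two ha, one_mul]) hc1
  have hCc : centralizer ({t} : Set G) = centralizer ({c} : Set G) := by
    refine coatom_eq (h.cent_coatom ht) (fun m hm => mem_centralizer_singleton_iff.2 ?_) (h.cent_coatom hco).1
    exact ((show Commute m t from mem_centralizer_singleton_iff.1 hm).mul_right
      (show Commute m a from mem_centralizer_singleton_iff.1 (e.symm ▸ hm))).eq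
  exact hiC ((h.cent_eq_of_comm hio hco hwodd hw1 hwi hc.symm).trans hCc.symm)

/-- the odd core has prime order and conjugates of an inverting involution stay near it -/
theorem Soc.conj_inverter (h : Soc T) (ht : orderOf t = 2) (hr : r.Prime) (hr2 : r ≠ 2) (hz : orderOf z = r)
    (hzt : Commute z t) {a : G} (ha : orderOf a = 2) (hat : Commute a t) (hne : a ≠ t) {m : G} (hm : Commute m t) :
    m * a * m⁻¹ * a⁻¹ ∈ zpowers z := by
  have hz1 : z ≠ 1 := fun e => hr.one_lt.ne (by rw [← hz, e, orderOf_one])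
  obtain ⟨-, hinv⟩ := h.inverts ht hr hr2 hz hzt ha hat hne
  obtain ⟨eN, hzO⟩ := h.odd_part ht hr hr2 (hz.trans (pow_one r).symm) hz1 hzt
  have hazj : ∀ y ∈ zpowers z, a * y * a⁻¹ = y⁻¹ := fun y hy => hinv y (zpowers_le.2 hzO hy)
  obtain ⟨e, hmem⟩ := h.dihedral_norm hr hr2 hz ha hazj
  set H := zpowers z ⊔ zpowers a with hH
  have hmH : m ∈ normalizer (H : Set G) := by
    rw [e, eN]
    exact mem_centralizer_singleton_iff.2 hm.eq
  rcases hmem _ (nrm_conj hmH (mem_sup_right (S := zpowers z) (mem_zpowers a))) with h1 | ⟨y, hy, e1⟩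
  · exfalso
    have h3 : orderOf (m * a * m⁻¹) ∣ r := hz ▸ orderOf_dvd_of_mem_zpowers h1
    rw [← MulAut.conj_apply, MulEquiv.orderOf_eq, ha] at h3
    exact hr2 ((Nat.prime_dvd_prime_iff_eq Nat.prime_two hr).1 h3).symm
  · rwa [e1, mul_inv_cancel_right]

/-- the odd core of the centraliser is of prime order -/
theorem Soc.ox_eq (h : Soc T) (ht : orderOf t = 2) (hr : r.Prime) (hr2 : r ≠ 2) (hz : orderOf z = r)
    (hzt : Commute z t) : OX (centralizer ({t} : Set G)) = zpowers z := by
  have hz1 : z ≠ 1 := fun e => hr.one_lt.ne (by rw [← hz, e, orderOf_one])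
  refine le_antisymm (fun w hw => ?_) (zpowers_le.2 (h.odd_part ht hr hr2 (hz.trans (pow_one r).symm) hz1 hzt).2)
  obtain ⟨g, hg, hgt⟩ := h.exists_fused ht
  have ha : orderOf (g * t * g⁻¹) = 2 := by rw [← MulAut.conj_apply, MulEquiv.orderOf_eq, ht]
  have hwt : Commute w t := mem_centralizer_singleton_iff.1 (ox_le _ hw)
  have h1 := h.conj_inverter ht hr hr2 hz hzt ha hgt hg hwt
  rw [show w * (g * t * g⁻¹) * w⁻¹ * (g * t * g⁻¹)⁻¹ =
    w * ((g * t * g⁻¹) * w * (g * t * g⁻¹)⁻¹)⁻¹ by group,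
    (h.inverts ht hr hr2 hz hzt ha hgt hg).2 w hw, inv_inv] at h1
  obtain ⟨k, hk⟩ := odd_of_ox hw
  have : w = (w * w) ^ (k + 1) := by
    rw [← pow_two, ← pow_mul, show 2 * (k + 1) = orderOf w + 1 by omega, pow_succ, pow_orderOf_eq_one, one_mul]
  rw [this]
  exact pow_mem h1 _

end

end Cfsg.Lib.MaxNorm
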