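import Cfsg.Agent.MaxNorm.Soc

/-!
An involution inverting an element of odd order.
-/

set_option autoImplicit false
set_option linter.unusedSectionVars false
set_option linter.style.haveILetI false

namespace Cfsg.Lib.MaxNorm

open Subgroup Cfsg.Lib.CITGroups Cfsg.Lib.CITExt
open Cfsg.Lib.CITExt.TwoS (mem_nrm nrm_conj)

universe u

variable {G : Type u} [Group G] [Finite G] {T : Subgroup G}

/-- the normaliser of the dihedral group on an element of odd prime order -/
theorem Soc.dihedral_norm (h : Soc T) {z a : G} {r : ℕ} (hr : r.Prime) (hr2 : r ≠ 2) (hz : orderOf z = r)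
    (ha : orderOf a = 2) (hinv : ∀ y ∈ zpowers z, a * y * a⁻¹ = y⁻¹) :
    normalizer ((zpowers z ⊔ zpowers a : Subgroup G) : Set G) = normalizer ((zpowers z : Subgroup G) : Set G) ∧
      ∀ x ∈ zpowers z ⊔ zpowers a, x ∈ zpowers z ∨ ∃ y ∈ zpowers z, x = y * a := by
  have hz1 : z ≠ 1 := fun e => hr.one_lt.ne (by rw [← hz, e, orderOf_one])
  have hza : zpowers a ≤ normalizer ((zpowers z : Subgroup G) : Set G) := by
    refine zpowers_le.2 (mem_nrm fun y hy => ?_)
    rw [hinv y hy]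
    exact inv_mem hy
  set H := zpowers z ⊔ zpowers a with hH
  have hmem : ∀ x ∈ H, (x ∈ zpowers z) ∨ (∃ y ∈ zpowers z, x = y * a) := by
    intro x hx
    have hx' : x ∈ ((zpowers z ⊔ zpowers a : Subgroup G) : Set G) := hx
    rw [coe_mul_of_right_le_normalizer_left (zpowers z) _ hza] at hx'
    obtain ⟨y, hy, b, hb, rfl⟩ := Set.mem_mul.1 hx'
    obtain ⟨n, rfl⟩ := mem_zpowers_iff.1 hb
    rcases Int.even_or_odd n with ⟨k, rfl⟩ | ⟨k, rfl⟩
    · exact Or.inl (by rw [← two_mul, _root_.zpow_mul, zpow_two, mul_self_of_two ha, one_zpow, mul_one]; exact hy)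
    · exact Or.inr ⟨y, hy, by rw [zpow_add_one, _root_.zpow_mul, zpow_two, mul_self_of_two ha, one_zpow, one_mul]⟩
  have hsq : ∀ y ∈ zpowers z, y * a * (y * a) = 1 := fun y hy => by
    rw [show y * a * (y * a) = y * (a * y * a⁻¹) * (a * a) by group, hinv y hy, mul_inv_cancel, one_mul,
      mul_self_of_two ha]
  have h2 : TwoPrime H := by
    refine ⟨r, 2, hr, Nat.prime_two, fun q hq hd => ?_⟩
    haveI := Fact.mk hq
    obtain ⟨x, hx⟩ := exists_prime_orderOf_dvd_card' (G := ↥H) q hd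
    rw [← orderOf_coe] at hx
    rcases hmem x x.2 with hx1 | ⟨y, hy, e⟩
    · exact Or.inl ((Nat.prime_dvd_prime_iff_eq hq hr).1 (hx ▸ hz ▸ orderOf_dvd_of_mem_zpowers hx1))
    · refine Or.inr ((Nat.prime_dvd_prime_iff_eq hq Nat.prime_two).1 (hx ▸ ?_))
      exact orderOf_dvd_of_pow_eq_one (by rw [pow_two, e, hsq y hy])
  have hle : normalizer (H : Set G) ≤ normalizer ((zpowers z : Subgroup G) : Set G) := by
    refine normalizer_le_of_stable fun g hg b hb => ?_
    obtain ⟨j, rfl⟩ := mem_zpowers_iff.1 hb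
    rw [← conj_zpow]
    refine zpow_mem ?_ j
    rcases hmem _ (nrm_conj hg (mem_sup_left (T := zpowers a) (mem_zpowers z))) with h1 | ⟨y, hy, e⟩
    · exact h1
    · exfalso
      have h3 : orderOf (g * z * g⁻¹) ∣ 2 := orderOf_dvd_of_pow_eq_one (by rw [e, pow_two, hsq y hy])
      rw [← MulAut.conj_apply, MulEquiv.orderOf_eq, hz] at h3
      exact hr2 ((Nat.prime_dvd_prime_iff_eq hr Nat.prime_two).1 h3)
  have hH1 : H ≠ ⊥ := fun e => zpowers_ne_bot hz1 (le_bot_iff.1 (e ▸ le_sup_left))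
  exact ⟨h.eq_of_le hH1 h2 (zpowers_ne_bot hz1) (twoPrime_zpowers hr hr (a := 1) (b := 0) (by simp [hz])) hle, hmem⟩

/-- an inverted element of odd order has prime order -/
theorem Soc.inverted_prime (h : Soc T) {w j : G} (hodd : Odd (orderOf w)) (hw1 : w ≠ 1) (hj : orderOf j = 2)
    (hinv : j * w * j⁻¹ = w⁻¹) : (orderOf w).Prime := by
  obtain ⟨r, hr, hd⟩ := Nat.exists_prime_and_dvd (n := orderOf w) fun e => hw1 (orderOf_eq_one_iff.1 e)
  have hr2 : r ≠ 2 := fun e => Nat.not_even_iff_odd.2 hodd (even_iff_two_dvd.2 (e ▸ hd))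
  set z := w ^ (orderOf w / r)
  have hz : orderOf z = r := orderOf_pow_orderOf_div (orderOf_pos w).ne' hd
  have hinvz : ∀ y ∈ zpowers w, j * y * j⁻¹ = y⁻¹ := fun y hy => by
    obtain ⟨n, rfl⟩ := mem_zpowers_iff.1 hy
    rw [← conj_zpow, hinv, inv_zpow]
  have hzw : zpowers z ≤ zpowers w := zpowers_le.2 (pow_mem (mem_zpowers w) _)
  obtain ⟨e, hmem⟩ := h.dihedral_norm hr hr2 hz hj fun y hy => hinvz y (hzw hy)
  have hwN : w ∈ normalizer ((zpowers z ⊔ zpowers j : Subgroup G) : Set G) :=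
    e.ge (normalizer_zpowers_le w _ (le_normalizer (mem_zpowers w)))
  have hm := hmem _ (nrm_conj hwN (mem_sup_right (S := zpowers z) (mem_zpowers j)))
  have hcw : w * j * w⁻¹ = w * w * j := by
    rw [show w * j * w⁻¹ = w * (j * w⁻¹ * j⁻¹) * j by group,
      hinvz _ (inv_mem (mem_zpowers w)), inv_inv]
  rw [hcw] at hm
  suffices h2 : w * w ∈ zpowers z by
    obtain ⟨k, hk⟩ := hodd
    have hw : w = (w * w) ^ (k + 1) := by
      rw [← pow_two, ← pow_mul, show 2 * (k + 1) = orderOf w + 1 by omega, pow_succ, pow_orderOf_eq_one, one_mul]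
    have := orderOf_dvd_of_mem_zpowers (hw ▸ pow_mem h2 _ : w ∈ zpowers z)
    rw [hz] at this
    rwa [Nat.dvd_antisymm this hd]
  rcases hm with hm | ⟨y, hy, hm⟩
  · exfalso
    have hj' : j ∈ zpowers w :=
      (mul_mem_cancel_left (mul_mem (mem_zpowers w) (mem_zpowers w))).1 (hzw hm)
    have := orderOf_dvd_of_mem_zpowers hj'
    rw [hj] at this
    exact Nat.not_even_iff_odd.2 hodd (even_iff_two_dvd.2 this)
  · rw [mul_right_cancel hm]
    exact hy

end Cfsg.Lib.MaxNorm
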