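import Cfsg.Agent.MaxNorm.Central
import Cfsg.Agent.Coprime.Basic

/-!
An involution of the socle commuting with an element of odd order: the Sylow 2-subgroups have order four.
-/

set_option autoImplicit false
set_option linter.unusedSectionVars false
set_option linter.style.haveILetI false

namespace Cfsg.Lib.MaxNorm

open Subgroup Cfsg.Lib.CITGroups Cfsg.Lib.CITExt
open Cfsg.Lib.CITExt.TwoS (OX ox_le ox_odd ox_conj mem_nrm nrm_conj inv_of_fpf)

universe u

variable {G : Type u} [Group G] [Finite G] {T : Subgroup G}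

theorem orderOf_conj_eq {g x : G} : orderOf (g * x * g⁻¹) = orderOf x := by
  rw [← MulAut.conj_apply, MulEquiv.orderOf_eq]

/-- a self-normalising 2-subgroup is a Sylow subgroup -/
theorem exists_sylow_eq {S : Subgroup G} (hS : IsPGroup 2 ↥S)
    (hself : ∀ g ∈ normalizer (S : Set G), g ∈ S) : ∃ Q : Sylow 2 G, (Q : Subgroup G) = S := by
  haveI : Fact (Nat.Prime 2) := ⟨Nat.prime_two⟩
  obtain ⟨Q, hQ⟩ := hS.exists_le_sylow
  refine ⟨Q, ?_⟩
  by_contra hne
  haveI : Group.IsNilpotent ↥(Q : Subgroup G) := Q.2.isNilpotent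
  have hlt := Group.normalizerCondition_of_isNilpotent (G := ↥(Q : Subgroup G)) (S.subgroupOf Q)
    (lt_top_iff_ne_top.2 fun e => hne (le_antisymm (subgroupOf_eq_top.1 e) hQ))
  obtain ⟨y, hy, hyS⟩ := SetLike.exists_of_lt hlt
  refine hyS (hself _ (mem_nrm fun k hk => ?_))
  exact (mem_normalizer_iff.1 hy ⟨k, hQ hk⟩).1 hk

section

variable {t z i : G} {r : ℕ}

/-- the common centraliser of two involutions with different centralisers is a 2-group -/
theorem Soc.inf_two (h : Soc T) (ht : orderOf t = 2) (hi : orderOf i = 2)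
    (hne : centralizer ({i} : Set G) ≠ centralizer ({t} : Set G)) :
    IsPGroup 2 ↥(centralizer ({t} : Set G) ⊓ centralizer ({i} : Set G) : Subgroup G) := by
  haveI : Fact (Nat.Prime 2) := ⟨Nat.prime_two⟩
  rw [IsPGroup.iff_orderOf]
  rintro ⟨x, hx⟩
  obtain ⟨hxt, hxi⟩ := Subgroup.mem_inf.1 hx
  rw [Subgroup.orderOf_mk]
  rcases Nat.eq_two_pow_or_exists_odd_prime_and_dvd (orderOf x) with ⟨k, hk⟩ | ⟨q, hq, hd, ho⟩
  · exact ⟨k, hk⟩
  exfalso
  have hyo : orderOf (x ^ (orderOf x / q)) = q := orderOf_pow_orderOf_div (orderOf_pos x).ne' hd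
  exact hne (h.cent_eq_of_comm hi ht (hyo.symm ▸ ho) (fun e => hq.one_lt.ne (by rw [← hyo, e, orderOf_one]))
    ((show Commute x i from mem_centralizer_singleton_iff.1 hxi).pow_left _)
    ((show Commute x t from mem_centralizer_singleton_iff.1 hxt).pow_left _))

/-- no conjugate of `t` inside its centraliser is a square there -/
theorem Soc.no_root (h : Soc T) (ht : orderOf t = 2) (hr : r.Prime) (hr2 : r ≠ 2) (hz : orderOf z = r)
    (hzt : Commute z t) {g x : G} (hg : g * t * g⁻¹ ≠ t) (hxt : Commute x t) : x * x ≠ g * t * g⁻¹ := by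
  intro hx
  have hao : orderOf (g * t * g⁻¹) = 2 := by rw [orderOf_conj_eq, ht]
  have hwo : orderOf (g * z * g⁻¹) = r := by rw [orderOf_conj_eq, hz]
  have hwa : Commute (g * z * g⁻¹) (g * t * g⁻¹) := by simpa using hzt.map (MulAut.conj g).toMonoidHom
  have h1 := h.root_comm hao hr hr2 hwo hwa hx
  have h2 := h.root_comm hao hr hr2 hwo hwa (x := x * t)
    (by rw [hxt.symm.mul_mul_mul_comm x t, hx, mul_self_of_two ht, mul_one])
  have h3 : Commute t (g * z * g⁻¹) := by
    have h4 := h1.inv_left.mul_left h2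
    rwa [inv_mul_cancel_left] at h4
  exact h.cent_conj_ne ht hg (h.cent_eq_of_comm hao ht (hwo.symm ▸ hr.odd_of_ne_two hr2)
    (fun e => hr.one_lt.ne (by rw [← hwo, e, orderOf_one])) hwa h3.symm)

/-- facts around a second involution of the centraliser -/
theorem Soc.local_four (h : Soc T) (ht : orderOf t = 2) (hr : r.Prime) (hr2 : r ≠ 2) (hz : orderOf z = r)
    (hzt : Commute z t) (hi : orderOf i = 2) (hit : Commute i t) (hne : i ≠ t) :
    (∀ y ∈ zpowers z, i * y * i⁻¹ = y⁻¹) ∧
      IsPGroup 2 ↥(centralizer ({t} : Set G) ⊓ centralizer ({i} : Set G) : Subgroup G) ∧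
      (∀ x ∈ centralizer ({t} : Set G) ⊓ centralizer ({i} : Set G), x * x = 1 →
        x = 1 ∨ x = t ∨ x = i ∨ x = t * i) ∧
      zpowers z ⊔ (centralizer ({t} : Set G) ⊓ centralizer ({i} : Set G)) = centralizer ({t} : Set G) ∧
      Nat.card ↥(centralizer ({t} : Set G)) =
        r * Nat.card ↥(centralizer ({t} : Set G) ⊓ centralizer ({i} : Set G) : Subgroup G) := by
  obtain ⟨hC, hinv⟩ := h.inverts ht hr hr2 hz hzt hi hit hne
  have hox := h.ox_eq ht hr hr2 hz hzt
  rw [hox] at hinv
  have hz1 : z ≠ 1 := fun e => hr.one_lt.ne (by rw [← hz, e, orderOf_one])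
  obtain ⟨eN, -⟩ := h.odd_part ht hr hr2 (hz.trans (pow_one r).symm) hz1 hzt
  have hzr : ∀ y ∈ zpowers z, y ^ r = 1 := fun y hy =>
    orderOf_dvd_iff_pow_eq_one.1 (hz ▸ orderOf_dvd_of_mem_zpowers hy)
  have hzC : zpowers z ≤ centralizer ({t} : Set G) := zpowers_le.2 (mem_centralizer_singleton_iff.2 hzt.eq)
  set D : Subgroup G := centralizer ({t} : Set G) ⊓ centralizer ({i} : Set G) with hD
  have hD2 := h.inf_two ht hi hC
  have hbot : zpowers z ⊓ D = ⊥ := by
    refine eq_bot_iff.2 fun y hy => mem_bot.2 ?_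
    obtain ⟨k, hk⟩ := IsPGroup.iff_orderOf.1 hD2 ⟨y, hy.2⟩
    rw [orderOf_mk] at hk
    exact eq_one_of_two_odd ⟨k, hk⟩ ((hr.odd_of_ne_two hr2).of_dvd_nat (hz ▸ orderOf_dvd_of_mem_zpowers hy.1))
  have hsup : zpowers z ⊔ D = centralizer ({t} : Set G) := by
    refine le_antisymm (sup_le hzC inf_le_left) fun m hm => ?_
    have hy := h.conj_inverter ht hr hr2 hz hzt hi hit hne (mem_centralizer_singleton_iff.1 hm : Commute m t)
    set y := m * i * m⁻¹ * i⁻¹ with hydef
    set u := y ^ ((r + 1) / 2) with hu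
    have hu2 : u * u = y := by
      rw [hu, ← pow_add, show (r + 1) / 2 + (r + 1) / 2 = r + 1 by
        have := Nat.odd_iff.1 (hr.odd_of_ne_two hr2); omega, pow_succ, hzr y hy, one_mul]
    have huz : u ∈ zpowers z := pow_mem hy _
    have h1 : u⁻¹ * m ∈ centralizer ({i} : Set G) := by
      refine mem_centralizer_singleton_iff.2 (mul_inv_eq_iff_eq_mul.1 ?_)
      rw [show u⁻¹ * m * i * (u⁻¹ * m)⁻¹ = u⁻¹ * y * (i * u * i⁻¹) * i by rw [hydef]; group, hinv u huz,
        ← hu2, inv_mul_cancel_left, mul_inv_cancel, one_mul]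
    have h2 : u⁻¹ * m ∈ D := Subgroup.mem_inf.2 ⟨mul_mem (inv_mem (hzC huz)) hm, h1⟩
    simpa using mul_mem_sup huz h2
  refine ⟨hinv, hD2, fun x hx hx2 => ?_, hsup, ?_⟩
  · rcases eq_or_ne x 1 with e | hx1
    · exact Or.inl e
    rcases eq_or_ne x t with e | hxt'
    · exact Or.inr (Or.inl e)
    have hxo : orderOf x = 2 := orderOf_eq_prime (by rw [pow_two, hx2]) hx1
    have hxt : Commute x t := mem_centralizer_singleton_iff.1 hx.1
    have hxi : Commute x i := mem_centralizer_singleton_iff.1 hx.2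
    obtain ⟨-, hinvx⟩ := h.inverts ht hr hr2 hz hzt hxo hxt hxt'
    rw [hox] at hinvx
    have hc : Commute (x * i) z := by
      refine mul_inv_eq_iff_eq_mul.1 ?_
      rw [show x * i * z * (x * i)⁻¹ = x * (i * z * i⁻¹) * x⁻¹ by group, hinv z (mem_zpowers z),
        ← conj_inv, hinvx z (mem_zpowers z), inv_inv]
    have hsq : x * i * (x * i) = 1 := by
      rw [hxi.symm.mul_mul_mul_comm x i, hx2, mul_self_of_two hi, one_mul]
    by_cases e1 : x * i = 1
    · refine Or.inr (Or.inr (Or.inl ?_))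
      rw [eq_inv_of_mul_eq_one_left e1, inv_eq_of_mul_eq_one_right (mul_self_of_two hi)]
    by_cases e2 : x * i = t
    · exact Or.inr (Or.inr (Or.inr (by rw [← e2, mul_assoc, mul_self_of_two hi, mul_one])))
    exfalso
    obtain ⟨-, hi3⟩ := h.inverts ht hr hr2 hz hzt (orderOf_eq_prime (by rw [pow_two, hsq]) e1)
      (hxt.mul_left hit) e2
    rw [hox] at hi3
    have h5 := hi3 z (mem_zpowers z)
    rw [hc.eq, mul_inv_cancel_right] at h5
    have h6 : orderOf z ∣ 2 := orderOf_dvd_of_pow_eq_one (by rw [pow_two]; nth_rw 1 [h5]; exact inv_mul_cancel _)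
    exact hr2 ((Nat.prime_dvd_prime_iff_eq hr Nat.prime_two).1 (hz ▸ h6))
  · rw [← hsup, Cfsg.Lib.Coprime.card_sup_of_inf_eq_bot (fun d hd => eN.ge (Subgroup.mem_inf.1 hd).1) hbot, Nat.card_zpowers, hz]

theorem card_four {D : Subgroup G} {a b : G} (ha : a ∈ D) (hb : b ∈ D) (ha1 : a ≠ 1) (hb1 : b ≠ 1) (hab : a ≠ b)
    (ha2 : a * a = 1) (h : ∀ x ∈ D, x = 1 ∨ x = a ∨ x = b ∨ x = a * b) : Nat.card ↥D = 4 := by
  have e : (D : Set G) = {1, a, b, a * b} := by
    ext x
    refine ⟨h x, ?_⟩
    rintro (rfl | rfl | rfl | rfl)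
    exacts [D.one_mem, ha, hb, D.mul_mem ha hb]
  rw [← SetLike.coe_sort_coe, Nat.card_coe_set_eq, e]
  have h3 : a * b ≠ 1 := fun e => hab (mul_left_cancel (a := a) (by rw [ha2, e]))
  rw [Set.ncard_insert_of_notMem (by simp [ha1.symm, hb1.symm, h3.symm]) (Set.toFinite _),
    Set.ncard_insert_of_notMem (by simp [hab, hb1]) (Set.toFinite _),
    Set.ncard_pair (by simp [ha1])]

/-- In a simple socle an involution commuting with an element of odd order forces Sylow 2-subgroups of order
four, with all involutions of one class. -/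
theorem Soc.four (h : Soc T) (ht : orderOf t = 2) (htT : t ∈ T) (hr : r.Prime) (hr2 : r ≠ 2)
    (hz : orderOf z = r) (hzt : Commute z t) :
    ∃ S : Sylow 2 G, (S : Subgroup G) ≤ T ∧ t ∈ (S : Subgroup G) ∧ Nat.card ↥(S : Subgroup G) = 4 ∧
      (∀ x ∈ (S : Subgroup G), x * x = 1) ∧ (∀ x ∈ (S : Subgroup G), x ≠ 1 → ∃ g, g * t * g⁻¹ = x) ∧
      Nat.card ↥(centralizer ({t} : Set G)) = 4 * r ∧
      (S : Subgroup G) ≤ centralizer ({t} : Set G) ∧
      zpowers z ⊔ (S : Subgroup G) = centralizer ({t} : Set G) ∧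
      ∀ x ∈ (S : Subgroup G), x ≠ 1 → x ≠ t → ∀ y ∈ zpowers z, x * y * x⁻¹ = y⁻¹ := by
  haveI : Fact (Nat.Prime 2) := ⟨Nat.prime_two⟩
  obtain ⟨g₀, hg₀, hg₀t⟩ := h.exists_fused ht
  set i := g₀ * t * g₀⁻¹ with hidef
  have hi : orderOf i = 2 := by rw [hidef, orderOf_conj_eq, ht]
  have hiT : i ∈ T := h.normal.conj_mem t htT g₀
  obtain ⟨hinv, hD2, hinvol, hsup, hcard⟩ := h.local_four ht hr hr2 hz hzt hi hg₀t hg₀
  set D : Subgroup G := centralizer ({t} : Set G) ⊓ centralizer ({i} : Set G) with hD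
  have ht2 := mul_self_of_two ht
  have hi2 := mul_self_of_two hi
  have hti : Commute t i := hg₀t.symm
  set c := t * i with hcdef
  have hc2 : c * c = 1 := by rw [hcdef, hti.symm.mul_mul_mul_comm t i, ht2, hi2, one_mul]
  have hc1 : c ≠ 1 := fun e => hg₀ (mul_left_cancel (a := t) (e.trans ht2.symm))
  have htD : t ∈ D := ⟨mem_centralizer_singleton_iff.2 rfl, mem_centralizer_singleton_iff.2 hti.eq⟩
  have hiD : i ∈ D := ⟨mem_centralizer_singleton_iff.2 hg₀t.eq, mem_centralizer_singleton_iff.2 rfl⟩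
  have hcD : c ∈ D := D.mul_mem htD hiD
  have hct : c ≠ t := fun e => ne_one_of_two hi (mul_left_cancel (a := t) (e.trans (mul_one t).symm))
  have hci : c ≠ i := fun e => ne_one_of_two ht (mul_right_cancel (b := i) (e.trans (one_mul i).symm))
  have hxD : ∀ x ∈ D, Commute x t ∧ Commute x i := fun x hx =>
    ⟨mem_centralizer_singleton_iff.1 hx.1, mem_centralizer_singleton_iff.1 hx.2⟩
  -- squares in `D`
  have hnot : ∀ x ∈ D, x * x ≠ t := by
    intro x hx e
    obtain ⟨hxt, hxi⟩ := hxD x hx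
    have h1 := h.root_comm ht hr hr2 hz hzt e
    have h2 := h.root_comm ht hr hr2 hz hzt (x := x * i)
      (by rw [hxi.symm.mul_mul_mul_comm x i, e, hi2, mul_one])
    have h3 : Commute i z := by
      have h4 := h1.inv_left.mul_left h2
      rwa [inv_mul_cancel_left] at h4
    have h5 := hinv z (mem_zpowers z)
    rw [h3.eq, mul_inv_cancel_right] at h5
    have h6 : orderOf z ∣ 2 := orderOf_dvd_of_pow_eq_one (by rw [pow_two]; nth_rw 1 [h5]; exact inv_mul_cancel _)
    exact hr2 ((Nat.prime_dvd_prime_iff_eq hr Nat.prime_two).1 (hz ▸ h6))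
  have hroot : ∀ a, a * a = 1 → a ∈ D → a ≠ 1 → (∃ g, g * t * g⁻¹ = a) → ∀ x ∈ D, x * x ≠ a := by
    rintro a - - - ⟨g, rfl⟩ x hx e
    by_cases hgt : g * t * g⁻¹ = t
    · exact hnot x hx (e.trans hgt)
    · exact h.no_root ht hr hr2 hz hzt hgt (hxD x hx).1 e
  have hpow : ∀ x ∈ D, x * x ≠ 1 → ∃ d ∈ D, d * d ≠ 1 ∧ d * d * (d * d) = 1 := by
    intro x hx hx2
    obtain ⟨k, hk⟩ := IsPGroup.iff_orderOf.1 hD2 ⟨x, hx⟩
    rw [orderOf_mk] at hk
    rcases k with _ | _ | k
    · rw [pow_zero, orderOf_eq_one_iff] at hk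
      exact absurd (by rw [hk, one_mul]) hx2
    · rw [zero_add, pow_one] at hk
      exact absurd (mul_self_of_two hk) hx2
    refine ⟨x ^ 2 ^ k, D.pow_mem hx _, fun e => ?_, ?_⟩
    · rw [← pow_two, ← pow_mul, ← pow_succ] at e
      have := orderOf_dvd_of_pow_eq_one e
      rw [hk, Nat.pow_dvd_pow_iff_le_right (by norm_num)] at this
      omega
    · rw [← pow_two, ← pow_two, ← pow_mul, ← pow_mul, ← pow_two,
        show 2 ^ k * 2 ^ 2 = 2 ^ (k + 1 + 1) by ring, ← hk, pow_orderOf_eq_one]
  by_cases hcc : ∃ g, g * t * g⁻¹ = c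
  · -- all three involutions are fused
    have hexp : ∀ x ∈ D, x * x = 1 := by
      intro x hx
      by_contra hne
      obtain ⟨d, hd, hd1, hd2⟩ := hpow x hx hne
      rcases hinvol (d * d) (D.mul_mem hd hd) hd2 with e | e | e | e
      · exact hd1 e
      · exact hnot d hd e
      · exact hroot i hi2 hiD (ne_one_of_two hi) ⟨g₀, rfl⟩ d hd e
      · exact hroot c hc2 hcD hc1 hcc d hd e
    have hall : ∀ x ∈ D, x = 1 ∨ x = t ∨ x = i ∨ x = c := fun x hx => hinvol x hx (hexp x hx)
    have hconj : ∀ x ∈ D, x ≠ 1 → ∃ g, g * t * g⁻¹ = x := by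
      intro x hx hx1
      rcases hall x hx with rfl | rfl | rfl | rfl
      exacts [absurd rfl hx1, ⟨1, by group⟩, ⟨g₀, rfl⟩, hcc]
    have hD4 : Nat.card ↥D = 4 :=
      card_four htD hiD (ne_one_of_two ht) (ne_one_of_two hi) (Ne.symm hg₀) ht2 hall
    have hC4 : Nat.card ↥(centralizer ({t} : Set G)) = 4 * r := by rw [hcard, hD4, mul_comm]
    obtain ⟨Q, hQ⟩ := hD2.exists_le_sylow
    have hQD : (Q : Subgroup G) = D := by
      by_contra hne
      haveI : Group.IsNilpotent ↥(Q : Subgroup G) := Q.2.isNilpotent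
      have hlt := Group.normalizerCondition_of_isNilpotent (G := ↥(Q : Subgroup G)) (D.subgroupOf Q)
        (lt_top_iff_ne_top.2 fun e => hne (le_antisymm (subgroupOf_eq_top.1 e) hQ))
      obtain ⟨⟨q, hqQ⟩, hq, hqD⟩ := SetLike.exists_of_lt hlt
      have hqn : ∀ x ∈ D, q * x * q⁻¹ ∈ D := fun x hx => (mem_normalizer_iff.1 hq ⟨x, hQ hx⟩).1 hx
      have hqv : ∀ x ∈ D, x ≠ 1 → q * x * q⁻¹ = t ∨ q * x * q⁻¹ = i ∨ q * x * q⁻¹ = c := fun x hx hx1 =>
        (hall _ (hqn x hx)).resolve_left fun e => hx1 (conj_eq_one_iff.1 e)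
      -- `q` fixes one of the three involutions
      obtain ⟨a, haD, ha1, haq⟩ : ∃ a ∈ D, a ≠ 1 ∧ Commute q a := by
        by_contra hno
        push Not at hno
        have hn : ∀ a ∈ D, a ≠ 1 → q * a * q⁻¹ ≠ a := fun a ha ha1 e =>
          hno a ha ha1 (mul_inv_eq_iff_eq_mul.1 e)
        have hinj : ∀ a b : G, q * a * q⁻¹ = q * b * q⁻¹ → a = b := fun a b e =>
          mul_left_cancel (mul_right_cancel e)
        have h3 : ∀ a ∈ D, a ≠ 1 → q ^ 3 * a * (q ^ 3)⁻¹ = a := by
          intro a ha ha1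
          rw [show q ^ 3 * a * (q ^ 3)⁻¹ = q * (q * (q * a * q⁻¹) * q⁻¹) * q⁻¹ by
            simp only [pow_three, mul_inv_rev, mul_assoc]]
          have t1 := hqv t htD (ne_one_of_two ht)
          have t2 := hqv i hiD (ne_one_of_two hi)
          have t3 := hqv c hcD hc1
          have n1 := hn t htD (ne_one_of_two ht)
          have n2 := hn i hiD (ne_one_of_two hi)
          have n3 := hn c hcD hc1
          have d1 : q * t * q⁻¹ ≠ q * i * q⁻¹ := fun e => hg₀ (hinj _ _ e).symm
          have d2 : q * t * q⁻¹ ≠ q * c * q⁻¹ := fun e => hct (hinj _ _ e).symm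
          have d3 : q * i * q⁻¹ ≠ q * c * q⁻¹ := fun e => hci (hinj _ _ e).symm
          rcases t1 with u | u | u
          · exact absurd u n1
          · rcases t2 with v | v | v
            · exfalso
              rcases t3 with w | w | w
              · exact d3 (v.trans w.symm)
              · exact d2 (u.trans w.symm)
              · exact n3 w
            · exact absurd v n2
            · rcases t3 with w | w | w
              · rcases (hall a ha).resolve_left ha1 with rfl | rfl | rfl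
                · rw [u, v, w]
                · rw [v, w, u]
                · rw [w, u, v]
              · exact absurd (u.trans w.symm) d2
              · exact absurd w n3
          · rcases t2 with v | v | v
            · rcases t3 with w | w | w
              · exact absurd (v.trans w.symm) d3
              · rcases (hall a ha).resolve_left ha1 with rfl | rfl | rfl
                · rw [u, w, v]
                · rw [v, u, w]
                · rw [w, v, u]
              · exact absurd w n3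
            · exact absurd v n2
            · exact absurd (u.trans v.symm) d1
        have hq3 : q ^ 3 ∈ D :=
          ⟨mem_centralizer_singleton_iff.2 (mul_inv_eq_iff_eq_mul.1 (h3 t htD (ne_one_of_two ht))),
            mem_centralizer_singleton_iff.2 (mul_inv_eq_iff_eq_mul.1 (h3 i hiD (ne_one_of_two hi)))⟩
        obtain ⟨k, hk⟩ := IsPGroup.iff_orderOf.1 Q.2 ⟨q, hqQ⟩
        rw [orderOf_mk] at hk
        obtain ⟨m, hm⟩ := exists_pow_eq_self_of_coprime (x := q) (n := 3)
          (by rw [hk]; exact Nat.Coprime.pow_right _ (by norm_num))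
        exact hqD (show q ∈ D from hm ▸ D.pow_mem hq3 m)
      obtain ⟨g, hg⟩ := hconj a haD ha1
      set K : Subgroup G := D ⊔ zpowers q with hK
      have hKQ : K ≤ Q := sup_le hQ (zpowers_le.2 hqQ)
      obtain ⟨k, hk⟩ := IsPGroup.iff_card.1 (Q.2.to_le hKQ)
      have hlt4 : 4 < Nat.card ↥K := by
        rw [← hD4]
        refine lt_of_le_of_ne (Subgroup.card_le_of_le le_sup_left) fun e => hqD ?_
        show q ∈ D
        rw [Subgroup.eq_of_le_of_card_ge (le_sup_left : D ≤ K) e.ge]
        exact mem_sup_right (mem_zpowers q)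
      have h8 : 8 ∣ Nat.card ↥K := by
        rw [hk] at hlt4 ⊢
        have h3 : 3 ≤ k := by
          by_contra hlt
          have := Nat.pow_le_pow_right two_pos (show k ≤ 2 by omega)
          omega
        exact pow_dvd_pow 2 h3
      have hKC : K.map (MulAut.conj g⁻¹).toMonoidHom ≤ centralizer ({t} : Set G) := by
        have hKa : K ≤ centralizer ({a} : Set G) := by
          refine sup_le (fun x hx => mem_centralizer_singleton_iff.2 ?_)
            (zpowers_le.2 (mem_centralizer_singleton_iff.2 haq.eq))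
          obtain ⟨hxt, hxi⟩ := hxD x hx
          rcases hall a haD with rfl | rfl | rfl | rfl
          exacts [absurd rfl ha1, hxt.eq, hxi.eq, (hxt.mul_right hxi).eq]
        rintro _ ⟨x, hx, rfl⟩
        have := ((show Commute x a from mem_centralizer_singleton_iff.1 (hKa hx)).map
          (MulAut.conj g⁻¹).toMonoidHom)
        rw [← hg] at this
        refine mem_centralizer_singleton_iff.2 ?_
        simpa [mul_assoc] using this.eq
      have h4r : 8 ∣ 4 * r := by
        rw [← hC4]
        refine h8.trans ?_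
        rw [Nat.card_congr (K.equivMapOfInjective (MulAut.conj g⁻¹).toMonoidHom
          (MulAut.conj g⁻¹).injective).toEquiv]
        exact Subgroup.card_dvd_of_le hKC
      exact hr2 ((Nat.prime_dvd_prime_iff_eq Nat.prime_two hr).1
        (Nat.dvd_of_mul_dvd_mul_left (by norm_num : 0 < 4) (show 4 * 2 ∣ 4 * r from h4r))).symm
    have hle : D ≤ T := fun x hx => by
      rcases hall x hx with rfl | rfl | rfl | rfl
      exacts [T.one_mem, htT, hiT, T.mul_mem htT hiT]
    refine ⟨Q, hQD ▸ hle, hQD ▸ htD, hQD ▸ hD4, hQD ▸ hexp, hQD ▸ hconj, hC4, hQD ▸ inf_le_left,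
      hQD ▸ hsup, ?_⟩
    rw [hQD]
    intro x hx hx1 hxt y hy
    rcases hall x hx with rfl | rfl | rfl | rfl
    · exact absurd rfl hx1
    · exact absurd rfl hxt
    · exact hinv y hy
    · rw [show t * i * y * (t * i)⁻¹ = t * (i * y * i⁻¹) * t⁻¹ by group, hinv y hy]
      obtain ⟨n, rfl⟩ := mem_zpowers_iff.1 hy
      rw [((hzt.zpow_left n).inv_left).symm.eq, mul_inv_cancel_right]
  · -- one involution of the four-group is isolated
    exfalso
    push Not at hcc
    let V : Subgroup G :=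
      { carrier := {x | x ∈ D ∧ x * x = 1}
        one_mem' := ⟨D.one_mem, one_mul 1⟩
        mul_mem' := by
          rintro a b ⟨ha, ha2⟩ ⟨hb, hb2⟩
          refine ⟨D.mul_mem ha hb, ?_⟩
          obtain ⟨hat, hai⟩ := hxD a ha
          have hab : Commute a b := by
            rcases hinvol b hb hb2 with rfl | rfl | rfl | rfl
            exacts [Commute.one_right a, hat, hai, hat.mul_right hai]
          rw [hab.symm.mul_mul_mul_comm a b, ha2, hb2, one_mul]
        inv_mem' := by
          rintro a ⟨ha, ha2⟩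
          exact ⟨D.inv_mem ha, by rw [inv_eq_of_mul_eq_one_right ha2, ha2]⟩ }
    have hVmem : ∀ x : G, x ∈ V ↔ x ∈ D ∧ x * x = 1 := fun x => Iff.rfl
    have hV2 : TwoPrime V := twoPrime_of_pGroup (hD2.to_le fun x hx => hx.1)
    have hV1 : V ≠ ⊥ := fun e => ne_one_of_two ht (mem_bot.1 (e ▸ (hVmem t).2 ⟨htD, ht2⟩))
    have hVco := h.max V hV1 hV2
    have hzV : z ∉ normalizer (V : Set G) := by
      intro hzV
      have h1 : z * i * z⁻¹ ∈ D := ((hVmem _).1 (nrm_conj hzV ((hVmem i).2 ⟨hiD, hi2⟩))).1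
      have h2 : z * z ∈ D := by
        have := D.mul_mem h1 (D.inv_mem hiD)
        rwa [show z * i * z⁻¹ * i⁻¹ = z * (i * z⁻¹ * i⁻¹) by group, hinv _ (inv_mem (mem_zpowers z)),
          inv_inv] at this
      obtain ⟨k, hk⟩ := IsPGroup.iff_orderOf.1 hD2 ⟨_, h2⟩
      rw [orderOf_mk] at hk
      have h3 := eq_one_of_two_odd ⟨k, hk⟩ ((hr.odd_of_ne_two hr2).of_dvd_nat
        (hz ▸ orderOf_dvd_of_mem_zpowers (mul_mem (mem_zpowers z) (mem_zpowers z))))
      have h6 : orderOf z ∣ 2 := orderOf_dvd_of_pow_eq_one (by rw [pow_two, h3])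
      exact hr2 ((Nat.prime_dvd_prime_iff_eq hr Nat.prime_two).1 (hz ▸ h6))
    obtain ⟨g, hgV, hgt⟩ : ∃ g ∈ normalizer (V : Set G), g * t * g⁻¹ ≠ t := by
      by_contra hno
      push Not at hno
      have e := coatom_eq hVco (fun g hg => mem_centralizer_singleton_iff.2
        (mul_inv_eq_iff_eq_mul.1 (hno g hg))) (h.cent_coatom ht).1
      exact hzV (e ▸ mem_centralizer_singleton_iff.2 hzt.eq)
    have hnc : ∀ g, g * t * g⁻¹ ∈ V → g * t * g⁻¹ ≠ t → g * t * g⁻¹ = i := by
      intro g hg hgt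
      rcases hinvol _ ((hVmem _).1 hg).1 ((hVmem _).1 hg).2 with e | e | e | e
      · exact absurd (conj_eq_one_iff.1 e) (ne_one_of_two ht)
      · exact absurd e hgt
      · exact e
      · exact absurd e (hcc g)
    have hNc : ∀ x ∈ normalizer (V : Set G), Commute x c := by
      intro x hx
      refine mul_inv_eq_iff_eq_mul.1 ?_
      have h1 := nrm_conj hx ((hVmem c).2 ⟨hcD, hc2⟩)
      rcases hinvol _ ((hVmem _).1 h1).1 ((hVmem _).1 h1).2 with e | e | e | e
      · exact absurd (conj_eq_one_iff.1 e) hc1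
      · exfalso
        refine hcc x⁻¹ ?_
        rw [← e]
        group
      · exfalso
        refine hcc (x⁻¹ * g₀) ?_
        rw [show x⁻¹ * g₀ * t * (x⁻¹ * g₀)⁻¹ = x⁻¹ * i * x by rw [hidef]; group, ← e]
        group
      · exact e
    set S := centralizer ({c} : Set G) with hS
    have hco : orderOf c = 2 := orderOf_eq_prime (by rw [pow_two, hc2]) hc1
    have hNS : normalizer (V : Set G) = S :=
      coatom_eq hVco (fun x hx => mem_centralizer_singleton_iff.2 (hNc x hx).eq) (h.cent_coatom hco).1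
    have hfix : ∀ x ∈ S, x * t * x⁻¹ = t → x ∈ D := by
      intro x hx e
      have hxt : Commute x t := mul_inv_eq_iff_eq_mul.1 e
      refine ⟨mem_centralizer_singleton_iff.2 hxt.eq, mem_centralizer_singleton_iff.2 ?_⟩
      rw [show i = t * c by rw [hcdef, ← mul_assoc, ht2, one_mul]]
      exact (hxt.mul_right (mem_centralizer_singleton_iff.1 hx : Commute x c)).eq
    have hswap : ∀ x ∈ S, x ∉ D → x * t * x⁻¹ = i ∧ x * i * x⁻¹ = t ∧ x * x ∈ D := by
      intro x hx hxD'
      have hx' : x ∈ normalizer (V : Set G) := hNS ▸ hx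
      have h1 := hnc x (nrm_conj hx' ((hVmem t).2 ⟨htD, ht2⟩)) fun e => hxD' (hfix x hx e)
      have h2 : x * c * x⁻¹ = c := by
        rw [(mem_centralizer_singleton_iff.1 hx : x * c = c * x), mul_inv_cancel_right]
      have h3 : x * i * x⁻¹ = t := by
        have e : i = t * c := by rw [hcdef, ← mul_assoc, ht2, one_mul]
        rw [e, show x * (t * c) * x⁻¹ = (x * t * x⁻¹) * (x * c * x⁻¹) by group, h1, h2, hcdef,
          hti.eq, ← mul_assoc, hi2, one_mul]
      refine ⟨h1, h3, hfix _ (mul_mem hx hx) ?_⟩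
      rw [show x * x * t * (x * x)⁻¹ = x * (x * t * x⁻¹) * x⁻¹ by group, h1, h3]
    have hS2 : IsPGroup 2 ↥S := by
      intro x
      by_cases hxD' : (x : G) ∈ D
      · obtain ⟨k, hk⟩ := IsPGroup.iff_orderOf.1 hD2 ⟨_, hxD'⟩
        rw [orderOf_mk] at hk
        exact ⟨k, Subtype.ext (by simp [← hk, pow_orderOf_eq_one])⟩
      · obtain ⟨k, hk⟩ := IsPGroup.iff_orderOf.1 hD2 ⟨_, (hswap x x.2 hxD').2.2⟩
        rw [orderOf_mk] at hk
        refine ⟨k + 1, Subtype.ext ?_⟩
        rw [SubmonoidClass.coe_pow, pow_succ', pow_mul, pow_two, ← hk, pow_orderOf_eq_one, coe_one]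
    -- a second conjugate of `c`
    obtain ⟨g₁, hg₁, hg₁c⟩ := h.exists_fused hco
    set c' := g₁ * c * g₁⁻¹ with hc'def
    have hc'S : c' ∈ S := mem_centralizer_singleton_iff.2 hg₁c.eq
    have hc'2 : c' * c' = 1 := by
      rw [hc'def, show g₁ * c * g₁⁻¹ * (g₁ * c * g₁⁻¹) = g₁ * (c * c) * g₁⁻¹ by group, hc2]
      group
    have hc'D : c' ∉ D := by
      intro hm
      rcases hinvol c' hm hc'2 with e | e | e | e
      · exact absurd (conj_eq_one_iff.1 e) hc1
      · refine hcc g₁⁻¹ ?_
        rw [← e, hc'def]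
        group
      · refine hcc (g₁⁻¹ * g₀) ?_
        rw [show g₁⁻¹ * g₀ * t * (g₁⁻¹ * g₀)⁻¹ = g₁⁻¹ * i * g₁ by rw [hidef]; group, ← e, hc'def]
        group
      · exact hg₁ e
    obtain ⟨hc't, hc'i, -⟩ := hswap c' hc'S hc'D
    by_cases hexp : ∀ x ∈ D, x * x = 1
    · -- a dihedral group of order eight
      have hall : ∀ x ∈ D, x = 1 ∨ x = t ∨ x = i ∨ x = c := fun x hx => hinvol x hx (hexp x hx)
      have hgen : closure ({t, c'} : Set G) = S := by
        refine le_antisymm ((closure_le _).2 ?_) fun x hx => ?_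
        · rw [Set.insert_subset_iff, Set.singleton_subset_iff]
          exact ⟨mem_centralizer_singleton_iff.2 ((Commute.refl t).mul_right hti).eq, hc'S⟩
        have hDle : ∀ y ∈ D, y ∈ closure ({t, c'} : Set G) := by
          intro y hy
          have ht' : t ∈ closure ({t, c'} : Set G) := subset_closure (Or.inl rfl)
          have hc'' : c' ∈ closure ({t, c'} : Set G) := subset_closure (Or.inr rfl)
          have hi' : i ∈ closure ({t, c'} : Set G) := hc't ▸ mul_mem (mul_mem hc'' ht') (inv_mem hc'')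
          rcases hall y hy with rfl | rfl | rfl | rfl
          exacts [one_mem _, ht', hi', mul_mem ht' hi']
        by_cases hxD' : x ∈ D
        · exact hDle x hxD'
        obtain ⟨e1, -, -⟩ := hswap x hx hxD'
        have h1 : c' * x ∈ D := hfix _ (mul_mem hc'S hx) (by
          rw [show c' * x * t * (c' * x)⁻¹ = c' * (x * t * x⁻¹) * c'⁻¹ by group, e1, hc'i])
        have := mul_mem (subset_closure (Or.inr rfl) : c' ∈ closure ({t, c'} : Set G)) (hDle _ h1)
        rwa [← mul_assoc, hc'2, one_mul] at this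
      have htc : (t * c') * (t * c') = c := by
        rw [hcdef, ← hc't, inv_eq_of_mul_eq_one_right hc'2]
        simp only [mul_assoc]
      have ho : orderOf (t * c') = 4 := by
        refine orderOf_eq_prime_pow (p := 2) (n := 1) ?_ ?_
        · rw [pow_one, pow_two, htc]
          exact hc1
        · rw [show (2 : ℕ) ^ (1 + 1) = 2 * 2 by norm_num, pow_mul, pow_two (t * c'), htc, pow_two, hc2]
      obtain ⟨e⟩ := Cfsg.Agent.S0206.result t c' ht (by rw [hc'def, orderOf_conj_eq, hco])
        (fun e => hc'D (e ▸ htD))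
      rw [ho, hgen] at e
      have hST : S ≤ T := by
        rw [← hgen, closure_le, Set.insert_subset_iff, Set.singleton_subset_iff]
        exact ⟨htT, h.normal.conj_mem _ (T.mul_mem htT hiT) g₁⟩
      obtain ⟨Q, hQ⟩ := exists_sylow_eq hS2 fun g hg => h.cent_self_norm hco hg
      haveI := h.simple
      have hres : Cfsg.pResidual 2 ↥T = ⊤ := by
        refine (IsSimpleGroup.eq_bot_or_eq_top_of_normal _ inferInstance).resolve_left fun e1 => ?_
        have h1 := Cfsg.Lib.Transfer.isPGroup_quotient_pResidual (p := 2) (G := ↥T)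
        haveI := (h1.of_equiv ((QuotientGroup.quotientMulEquivOfEq e1).trans QuotientGroup.quotientBot)).isNilpotent
        exact not_solvable_of_simple (T := T) (hna := h.nonab) inferInstance
      obtain ⟨g, hg⟩ := Cfsg.Agent.S0107.result (Q.subtype (hQ ▸ hST)) 2 le_rfl
        ⟨(subgroupOfEquivOfLe (hQ ▸ hST : (Q : Subgroup G) ≤ T)).trans
          ((MulEquiv.subgroupCongr hQ).trans e)⟩ hres ⟨t, htT⟩ ⟨c, T.mul_mem htT hiT⟩
        (by rw [orderOf_mk, ht]) (by rw [orderOf_mk, hco])
      exact hcc g (congrArg Subtype.val hg)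
    · -- a square root of `c`
      push Not at hexp
      obtain ⟨x, hx, hx2⟩ := hexp
      obtain ⟨d₀, hd₀, hd₀1, hd₀2⟩ := hpow x hx hx2
      have hd₀c : d₀ * d₀ = c := by
        rcases hinvol (d₀ * d₀) (D.mul_mem hd₀ hd₀) hd₀2 with e | e | e | e
        · exact absurd e hd₀1
        · exact absurd e (hnot d₀ hd₀)
        · exact absurd e (hroot i hi2 hiD (ne_one_of_two hi) ⟨g₀, rfl⟩ d₀ hd₀)
        · exact e
      -- `D` is commutative
      have hw : Commute (g₀ * z * g₀⁻¹) i := by simpa [hidef] using hzt.map (MulAut.conj g₀).toMonoidHom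
      have hwo : orderOf (g₀ * z * g₀⁻¹) = r := by rw [orderOf_conj_eq, hz]
      have hab : ∀ (y a : G), orderOf y = r → orderOf a = 2 → Commute y a →
          ∀ p ∈ centralizer ({a} : Set G), ∀ q ∈ centralizer ({a} : Set G),
          Commute (p * q * p⁻¹ * q⁻¹) y := by
        intro y a hy ha hya p hp q hq
        have hy1 : y ≠ 1 := fun e => hr.one_lt.ne (by rw [← hy, e, orderOf_one])
        obtain ⟨eY, -⟩ := h.odd_part ha hr hr2 (hy.trans (pow_one r).symm) hy1 hya
        have key : ∀ m ∈ centralizer ({a} : Set G), ∃ n : ℤ, ∀ j : ℤ, m * y ^ j * m⁻¹ = y ^ (n * j) := by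
          intro m hm
          obtain ⟨n, hn⟩ := mem_zpowers_iff.1 (nrm_conj (eY.ge hm) (mem_zpowers y))
          exact ⟨n, fun j => by rw [← conj_zpow, ← hn, ← _root_.zpow_mul]⟩
        obtain ⟨n, hn⟩ := key p hp
        obtain ⟨m, hm⟩ := key q hq
        refine mul_inv_eq_iff_eq_mul.1 ?_
        have e1 : ∀ j : ℤ, p * q * y ^ j * (p * q)⁻¹ = q * p * y ^ j * (q * p)⁻¹ := fun j => by
          rw [show p * q * y ^ j * (p * q)⁻¹ = p * (q * y ^ j * q⁻¹) * p⁻¹ by group, hm, hn,
            show q * p * y ^ j * (q * p)⁻¹ = q * (p * y ^ j * p⁻¹) * q⁻¹ by group, hn, hm]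
          ring_nf
        obtain ⟨n', hn'⟩ := mem_zpowers_iff.1
          (nrm_conj (eY.ge (inv_mem (mul_mem hq hp))) (mem_zpowers y))
        calc p * q * p⁻¹ * q⁻¹ * y * (p * q * p⁻¹ * q⁻¹)⁻¹
            = p * q * ((q * p)⁻¹ * y * (q * p)⁻¹⁻¹) * (p * q)⁻¹ := by group
          _ = q * p * ((q * p)⁻¹ * y * (q * p)⁻¹⁻¹) * (q * p)⁻¹ := by rw [← hn', e1]
          _ = y := by group
      have hcomm : ∀ p ∈ D, ∀ q ∈ D, Commute p q := by
        intro p hp q hq
        set e := p * q * p⁻¹ * q⁻¹ with hedef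
        suffices he1 : e = 1 by exact mul_inv_eq_iff_eq_mul.1 (mul_inv_eq_one.1 he1)
        have he : e ∈ D := mul_mem (mul_mem (mul_mem hp hq) (inv_mem hp)) (inv_mem hq)
        have c1 : Commute e z := hab z t hz ht hzt p hp.1 q hq.1
        have c2 : Commute e (g₀ * z * g₀⁻¹) := hab _ i hwo hi hw p hp.2 q hq.2
        by_contra hne
        obtain ⟨k, hk⟩ := IsPGroup.iff_orderOf.1 hD2 ⟨e, he⟩
        rw [orderOf_mk] at hk
        rcases k with _ | k
        · exact hne (orderOf_eq_one_iff.1 (by simpa using hk))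
        have h1 : orderOf (e ^ 2 ^ k) = 2 := by
          rw [orderOf_pow' e (pow_ne_zero _ two_ne_zero), hk, pow_succ, Nat.gcd_eq_right (dvd_mul_right _ _),
            Nat.mul_div_cancel_left _ (pow_pos two_pos k)]
        have h2 := hinvol _ (D.pow_mem he (2 ^ k)) (mul_self_of_two h1)
        have hsame : ∀ y : G, orderOf y = r → Commute y t → Commute y i → False := fun y hy hyt hyi =>
          h.cent_conj_ne ht hg₀ (h.cent_eq_of_comm hi ht (hy.symm ▸ hr.odd_of_ne_two hr2)
            (fun e => hr.one_lt.ne (by rw [← hy, e, orderOf_one])) hyi hyt)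
        have c1' := c1.pow_left (2 ^ k)
        have c2' := c2.pow_left (2 ^ k)
        rcases h2 with e2 | e2 | e2 | e2
        · exact ne_one_of_two h1 e2
        · rw [e2] at c2'
          exact hsame _ hwo c2'.symm hw
        · rw [e2] at c1'
          exact hsame z hz hzt c1'.symm
        · rw [e2] at c1'
          have h3 : Commute i z := by
            have h4 := hzt.symm.mul_left c1'
            rwa [hcdef, ← mul_assoc, ht2, one_mul] at h4
          exact hsame z hz hzt h3.symm
      -- a root of `c` centralised by `c'`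
      obtain ⟨d, hd, hdc, hdd⟩ : ∃ d ∈ D, Commute c' d ∧ d * d = c := by
        have hd₁ : c' * d₀ * c'⁻¹ ∈ D := by
          obtain ⟨a1, a2⟩ := hxD d₀ hd₀
          refine ⟨mem_centralizer_singleton_iff.2 ?_, mem_centralizer_singleton_iff.2 ?_⟩
          · have := (a2.map (MulAut.conj c').toMonoidHom).eq
            simpa [hc'i] using this
          · have := (a1.map (MulAut.conj c').toMonoidHom).eq
            simpa [hc't] using this
        set u := c' * d₀ * c'⁻¹ * d₀⁻¹ with hu
        have huD : u ∈ D := mul_mem hd₁ (inv_mem hd₀)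
        have hu2 : u * u = 1 := by
          rw [hu, ((hcomm _ hd₁ _ (inv_mem hd₀)).symm).mul_mul_mul_comm,
            show c' * d₀ * c'⁻¹ * (c' * d₀ * c'⁻¹) = c' * (d₀ * d₀) * c'⁻¹ by group,
            ← mul_inv_rev, hd₀c, (mem_centralizer_singleton_iff.1 hc'S : c' * c = c * c'),
            mul_inv_cancel_right, mul_inv_cancel]
        have h2 : c' * u * c'⁻¹ * u = 1 := by
          have : c' * u * c'⁻¹ * u = (c' * c') * d₀ * (c' * c')⁻¹ * d₀⁻¹ := by rw [hu]; group
          rw [this, hc'2]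
          group
        have hc'c : c' * c * c'⁻¹ = c := by
          rw [(mem_centralizer_singleton_iff.1 hc'S : c' * c = c * c'), mul_inv_cancel_right]
        rcases hinvol u huD hu2 with e | e | e | e
        · exact ⟨d₀, hd₀, mul_inv_eq_iff_eq_mul.1 (mul_inv_eq_one.1 e), hd₀c⟩
        · rw [e, hc't] at h2
          exact absurd (mul_right_cancel (h2.trans ht2.symm)) hg₀
        · rw [e, hc'i] at h2
          exact absurd (mul_right_cancel (h2.trans hi2.symm)).symm hg₀
        · refine ⟨d₀ * t, D.mul_mem hd₀ htD, mul_inv_eq_iff_eq_mul.1 ?_, ?_⟩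
          · rw [show c' * (d₀ * t) * c'⁻¹ = u * d₀ * (c' * t * c'⁻¹) by rw [hu]; group, e, hc't,
              (hcomm c hcD d₀ hd₀).eq, mul_assoc, hcdef, mul_assoc t, hi2, mul_one]
          · rw [(hxD d₀ hd₀).1.symm.mul_mul_mul_comm d₀ t, hd₀c, ht2, mul_one]
      have he : g₁⁻¹ * d * g₁ ∈ S := by
        have := (hdc.map (MulAut.conj g₁⁻¹).toMonoidHom).symm.eq
        refine mem_centralizer_singleton_iff.2 ?_
        simpa [hc'def, mul_assoc] using this
      set e := g₁⁻¹ * d * g₁ with hedef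
      have hee : e * e = g₁⁻¹ * c * g₁ := by rw [hedef, ← hdd]; group
      have hee1 : e * e ≠ 1 := fun e1 => hc1 (by
        rw [← hdd, show d * d = g₁ * (e * e) * g₁⁻¹ by rw [hedef]; group, e1]; group)
      have hee2 : e * e * (e * e) = 1 := by
        rw [hee, show g₁⁻¹ * c * g₁ * (g₁⁻¹ * c * g₁) = g₁⁻¹ * (c * c) * g₁ by group, hc2]
        group
      have hsq : e * e = c := by
        by_cases heD : e ∈ D
        · rcases hinvol _ (D.mul_mem heD heD) hee2 with e1 | e1 | e1 | e1
          exacts [absurd e1 hee1, absurd e1 (hnot e heD),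
            absurd e1 (hroot i hi2 hiD (ne_one_of_two hi) ⟨g₀, rfl⟩ e heD), e1]
        · obtain ⟨e1, e2, e3⟩ := hswap e he heD
          rcases hinvol _ e3 hee2 with e4 | e4 | e4 | e4
          · exact absurd e4 hee1
          · exfalso
            refine hg₀ ?_
            rw [← e1, ← e4]
            group
          · exfalso
            refine hg₀ (Eq.symm ?_)
            rw [← e2, ← e4]
            group
          · exact e4
      refine hg₁ ?_
      rw [hc'def]
      nth_rw 1 [← hsq]
      rw [hee]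
      group

end

end Cfsg.Lib.MaxNorm
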