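import Cfsg.Agent.MaxNorm.Soc
import Cfsg.Agent.CITExt.OuterLinear

/-!
A socle isomorphic to `PSL(2, q)` with `q` odd.
-/

set_option autoImplicit false
set_option linter.unusedSectionVars false
set_option linter.style.haveILetI false

namespace Cfsg.Lib.MaxNorm

open Subgroup Matrix Cfsg.Lib.CITGroups Cfsg.Lib.CITExt Cfsg.Lib.Known.AutPSL2
open Cfsg.Lib.CITExt.TwoS (mem_nrm nrm_conj)

universe u

section Fld

variable {F : Type} [Field F] [Fintype F]

/-- a diagonal element -/
def dS (b : Fˣ) : Matrix.SpecialLinearGroup (Fin 2) F := ⟨!![(b : F), 0; 0, ((b⁻¹ : Fˣ) : F)], by simp [det_fin_two]⟩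

theorem coe_dS (b : Fˣ) :
    (dS b : Matrix (Fin 2) (Fin 2) F) = !![(b : F), 0; 0, ((b⁻¹ : Fˣ) : F)] := rfl

/-- the centraliser of a unipotent element -/
theorem mem_range_u_of_comm (h2 : (2 : F) ≠ 0) {y : Matrix.ProjectiveSpecialLinearGroup (Fin 2) F}
    (hy : Commute y (π (uS (1 : F)))) : y ∈ (Known.AutPSL2.u (F := F)).range := by
  obtain ⟨M, rfl⟩ := QuotientGroup.mk'_surjective _ y
  have e : π (M * uS 1) = π (uS 1 * M) := by rw [map_mul, map_mul]; exact hy.eq
  obtain ⟨c, hc, hM⟩ := π_eq e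
  rw [cmul, cmul, coe_uS] at hM
  have hd := M.2
  rw [det_fin_two] at hd
  have e00 := congrFun (congrFun hM 0) 0
  have e01 := congrFun (congrFun hM 0) 1
  have e10 := congrFun (congrFun hM 1) 0
  simp [Matrix.mul_apply, Fin.sum_univ_two, Matrix.vecMul, dotProduct] at e00 e01 e10
  rcases mul_self_eq_one_iff.1 hc with rfl | rfl
  · have h10 : M.1 1 0 = 0 := by linear_combination e00
    have h11 : M.1 1 1 = M.1 0 0 := by linear_combination e01
    rw [h10, h11, mul_zero, sub_zero] at hd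
    refine ⟨Multiplicative.ofAdd (M.1 0 1 * M.1 0 0), ?_⟩
    rw [u_apply]
    refine (QuotientGroup.mk'_eq_mk' _).2 ⟨(uS (M.1 0 1 * M.1 0 0))⁻¹ * M, ?_, mul_inv_cancel_left _ _⟩
    refine Matrix.SpecialLinearGroup.mem_center_iff.2 ⟨M.1 0 0, by simpa [sq] using hd, ?_⟩
    rw [cmul, cinv, coe_uS]
    ext i j
    fin_cases i <;> fin_cases j <;> simp [Matrix.adjugate_fin_two, Matrix.mul_apply, Fin.sum_univ_two, h10, h11]
    linear_combination (M.1 0 1) * hd
  · exfalso
    have h10 : M.1 1 0 = 0 := by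
      have : (2 : F) * M.1 1 0 = 0 := by linear_combination e10
      exact (mul_eq_zero.1 this).resolve_left h2
    have h00 : M.1 0 0 = 0 := by
      have : (2 : F) * M.1 0 0 = 0 := by linear_combination e00 - h10
      exact (mul_eq_zero.1 this).resolve_left h2
    rw [h00, h10, zero_mul, mul_zero, sub_zero] at hd
    exact zero_ne_one hd

theorem diag_conj_u (b : Fˣ) (x : F) : π (dS b) * π (uS x) * (π (dS b))⁻¹ = π (uS ((b : F) ^ 2 * x)) := by
  rw [← map_inv, ← map_mul, ← map_mul]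
  congr 1
  refine sl_ext ?_
  rw [conj_uS, coe_uS, coe_dS]
  ext i j
  fin_cases i <;> fin_cases j <;> simp

end Fld

variable {G : Type u} [Group G] [Finite G] {T : Subgroup G}

/-- the field is of prime order -/
theorem Soc.field_prime (h : Soc T) {F : Type} [Field F] [Fintype F] (hF : Odd (Fintype.card F))
    (e : ↥T ≃* Matrix.ProjectiveSpecialLinearGroup (Fin 2) F) : (Fintype.card F).Prime := by
  classical
  obtain ⟨p, hpc⟩ := CharP.exists F
  haveI := hpc
  obtain ⟨f, hp, hcard⟩ := FiniteField.card F p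
  haveI := Fact.mk hp
  have hp2 : p ≠ 2 := fun e1 => Nat.not_even_iff_odd.2 hF (even_iff_two_dvd.2 (by
    rw [hcard, e1]; exact dvd_pow_self 2 f.pos.ne'))
  have h2 : (2 : F) ≠ 0 := by
    have : ((2 : ℕ) : F) ≠ 0 := fun e0 => hp2 ((Nat.prime_dvd_prime_iff_eq hp Nat.prime_two).1
      ((CharP.cast_eq_zero_iff F p 2).1 e0))
    simpa using this
  set ι : Matrix.ProjectiveSpecialLinearGroup (Fin 2) F →* G := T.subtype.comp e.symm.toMonoidHom with hι
  have hιi : Function.Injective ι := T.subtype_injective.comp e.symm.injective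
  set x₀ := ι (π (uS (1 : F))) with hx₀
  have hx₀o : orderOf x₀ = p := by rw [hx₀, orderOf_injective ι hιi, orderOf_u]
  set W := zpowers x₀ with hW
  set U := (Known.AutPSL2.u (F := F)).range.map ι with hU
  have hW1 : W ≠ ⊥ := zpowers_ne_bot fun e1 => hp.one_lt.ne (by rw [← hx₀o, e1, orderOf_one])
  have hW2 : TwoPrime W := twoPrime_zpowers hp hp (a := 1) (b := 0) (by simp [hx₀o])
  have hxU : x₀ ∈ U := ⟨_, ⟨Multiplicative.ofAdd 1, rfl⟩, rfl⟩
  have hU1 : U ≠ ⊥ := fun e1 => hW1 (le_bot_iff.1 (e1 ▸ zpowers_le.2 hxU))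
  have hU2 : TwoPrime U := by
    refine twoPrime_of_pGroup (p := p) (IsPGroup.map ?_ _)
    exact IsPGroup.of_card (n := (f : ℕ)) (by
      rw [← Nat.card_congr (MonoidHom.ofInjective (u_injective (F := F))).toEquiv,
        Nat.card_congr Multiplicative.toAdd, Nat.card_eq_fintype_card, hcard])
  have hle : normalizer (W : Set G) ≤ normalizer (U : Set G) := by
    refine normalizer_le_of_stable fun g hg y hy => ?_
    obtain ⟨_, ⟨x, rfl⟩, rfl⟩ := hy
    have hgy : g * ι (Known.AutPSL2.u x) * g⁻¹ ∈ T := h.normal.conj_mem _ (e.symm _).2 g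
    refine ⟨e ⟨_, hgy⟩, mem_range_u_of_comm h2 ?_, by simp [hι]⟩
    obtain ⟨k, hk⟩ := mem_zpowers_iff.1 (nrm_conj (inv_mem hg) (mem_zpowers x₀))
    rw [inv_inv] at hk
    have hc : Commute (ι (Known.AutPSL2.u x)) (g⁻¹ * x₀ * g) := by
      rw [← hk]
      refine Commute.zpow_right ?_ k
      rw [hx₀, ← u_apply]
      exact ((Commute.all x (Multiplicative.ofAdd 1)).map Known.AutPSL2.u).map ι
    refine e.symm.injective.eq_iff.1 ?_
    rw [map_mul, map_mul, MulEquiv.symm_apply_apply]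
    refine Subtype.ext ?_
    show g * ι (Known.AutPSL2.u x) * g⁻¹ * x₀ = x₀ * (g * ι (Known.AutPSL2.u x) * g⁻¹)
    have := (hc.map (MulAut.conj g).toMonoidHom).eq
    simpa [mul_assoc] using this
  have hNN := h.eq_of_le hW1 hW2 hU1 hU2 hle
  have key : ∀ b : Fˣ, ∃ k : ℤ, (b : F) ^ 2 = (k : F) := by
    intro b
    set D : Matrix.SpecialLinearGroup (Fin 2) F := dS b
    have hD : ι (π D) ∈ normalizer (W : Set G) := by
      rw [hNN]
      refine mem_nrm ?_
      rintro _ ⟨_, ⟨x, rfl⟩, rfl⟩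
      refine ⟨_, ⟨Multiplicative.ofAdd ((b : F) ^ 2 * x.toAdd), rfl⟩, ?_⟩
      rw [← map_inv, ← map_mul, ← map_mul]
      exact congrArg ι (diag_conj_u b x.toAdd).symm
    obtain ⟨k, hk⟩ := mem_zpowers_iff.1 (nrm_conj hD (mem_zpowers x₀))
    refine ⟨k, ?_⟩
    rw [hx₀, ← map_inv, ← map_mul, ← map_mul, ← map_zpow, diag_conj_u, mul_one, ← u_apply, ← map_zpow,
      ← u_apply] at hk
    have := u_injective (hιi hk)
    have h3 := congrArg Multiplicative.toAdd this
    simpa using h3.symm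
  have hroot : ∀ x : F, x ^ (2 * p) = x ^ 2 := by
    intro x
    rcases eq_or_ne x 0 with rfl | hx
    · rw [zero_pow (mul_ne_zero two_ne_zero hp.ne_zero), zero_pow two_ne_zero]
    obtain ⟨k, hk⟩ := key (Units.mk0 x hx)
    rw [Units.val_mk0] at hk
    rw [pow_mul, hk]
    exact map_intCast (frobenius F p) k
  set P : Polynomial F := Polynomial.X ^ (2 * p) - Polynomial.X ^ 2
  have hP : P.natDegree ≤ 2 * p := by
    refine (Polynomial.natDegree_sub_le _ _).trans ?_
    rw [Polynomial.natDegree_X_pow, Polynomial.natDegree_X_pow]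
    have := hp.two_le
    omega
  have hP0 : P ≠ 0 := by
    intro e0
    have := congrArg (fun q => Polynomial.coeff q (2 * p)) e0
    simp [P, Polynomial.coeff_X_pow, show 2 * p ≠ 2 by have := hp.two_le; omega] at this
  have hle2 : Fintype.card F ≤ 2 * p :=
    (Polynomial.card_le_degree_of_subset_roots (Z := Finset.univ) (fun x _ => by
      rw [Polynomial.mem_roots']
      exact ⟨hP0, by simp [P, hroot x]⟩)).trans hP
  rcases Nat.lt_or_ge (f : ℕ) 2 with hf | hf
  · rw [hcard, show (f : ℕ) = 1 by have := f.pos; omega, pow_one]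
    exact hp
  · exfalso
    rw [hcard] at hle2
    have h3 := (Nat.pow_le_pow_right hp.pos hf).trans hle2
    rw [pow_two] at h3
    have := Nat.le_of_mul_le_mul_right h3 hp.pos
    have := hp.two_le
    omega

/-- the index of the socle is at most two -/
theorem Soc.index_le_two (h : Soc T) {F : Type} [Field F] [Fintype F] (hFp : (Fintype.card F).Prime)
    (e : ↥T ≃* Matrix.ProjectiveSpecialLinearGroup (Fin 2) F) : T.index ≤ 2 := by
  classical
  haveI := h.normal
  set p := Fintype.card F with hp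
  haveI := Fact.mk hFp
  haveI : CharP F p := charP_of_card_eq_prime_pow (p := p) (f := 1) (by rw [pow_one])
  letI : Algebra (ZMod p) F := ZMod.algebra F p
  obtain ⟨ρ, hρ, hρN⟩ := exists_rho h.cent e
  have hbij : Function.Bijective (algebraMap (ZMod p) F) :=
    (Fintype.bijective_iff_injective_and_card _).2 ⟨(algebraMap (ZMod p) F).injective, by rw [ZMod.card]⟩
  have hσ : ∀ σ : F ≃ₐ[ZMod p] F, σ = 1 := fun σ => AlgEquiv.ext fun x => by
    obtain ⟨k, rfl⟩ := hbij.2 x
    rw [AlgEquiv.commutes]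
    rfl
  have hdec : ∀ g : G, ∃ (d : Matrix.ProjectiveSpecialLinearGroup (Fin 2) F) (a : Fˣ),
      ρ g = MulAut.conj d * diagAut a := fun g => by
    obtain ⟨d, a, σ, hd⟩ := exists_decomp p (f := 1) le_rfl (by rw [pow_one]) (ρ g)
    exact ⟨d, a, by rw [hd, hσ σ, map_one, mul_one]⟩
  have hmem : ∀ (g : G) d (a : Fˣ), ρ g = MulAut.conj d * diagAut a → IsSquare (a : F) → g ∈ T := by
    rintro g d a hd ⟨b, hb⟩
    have hb0 : b ≠ 0 := fun e0 => a.ne_zero (by rw [hb, e0, mul_zero])
    obtain ⟨d', hd'⟩ := diagAut_sq (F := F) (Units.mk0 b hb0)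
    rw [show a = Units.mk0 b hb0 ^ 2 from Units.ext (by simp [pow_two, hb]), hd', ← map_mul] at hd
    rw [← e.apply_symm_apply (d * d'), ← hρN] at hd
    exact (hρ hd) ▸ (e.symm _).2
  have key : ∀ g g' : G, g ∉ T → g' ∉ T → g⁻¹ * g' ∈ T := by
    intro g g' hg hg'
    obtain ⟨d, a, hd⟩ := hdec g
    obtain ⟨d', a', hd'⟩ := hdec g'
    have hn : ¬ IsSquare (a : F) := fun hs => hg (hmem g d a hd hs)
    have hn' : ¬ IsSquare (a' : F) := fun hs => hg' (hmem g' d' a' hd' hs)
    have hsq : IsSquare ((a⁻¹ * a' : Fˣ) : F) := by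
      have h1 : ¬ IsSquare ((a⁻¹ : Fˣ) : F) := fun hs => hn (by
        obtain ⟨b, hb⟩ := hs
        exact ⟨b⁻¹, by rw [← mul_inv, ← hb, ← Units.val_inv_eq_inv_val, inv_inv]⟩)
      push_cast
      rw [← quadraticChar_one_iff_isSquare (mul_ne_zero (inv_ne_zero a.ne_zero) a'.ne_zero), map_mul,
        quadraticChar_neg_one_iff_not_isSquare.2 (by rwa [← Units.val_inv_eq_inv_val]),
        quadraticChar_neg_one_iff_not_isSquare.2 hn']
      norm_num
    refine hmem _ (diagAut a⁻¹ (d⁻¹ * d')) (a⁻¹ * a') ?_ hsq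
    have hswap : ∀ (α : MulAut (Matrix.ProjectiveSpecialLinearGroup (Fin 2) F)) y,
        α * MulAut.conj y = MulAut.conj (α y) * α := fun α y => MulEquiv.ext fun x => by
      simp [map_mul]
    rw [map_mul, map_inv, hd, hd', map_mul diagAut, ← mul_assoc (MulAut.conj _), ← hswap, map_inv diagAut,
      map_mul MulAut.conj, map_inv MulAut.conj]
    group
  by_contra hlt
  push Not at hlt
  obtain ⟨g, hg⟩ : ∃ g, g ∉ T := by
    by_contra hc
    push Not at hc
    rw [show T = ⊤ from eq_top_iff.2 fun x _ => hc x, index_top] at hlt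
    omega
  have hidx : T.index = 2 := index_eq_two_iff.2 ⟨g⁻¹, fun b => by
    by_cases hb : b ∈ T
    · refine Or.inr ⟨hb, fun h1 => hg ?_⟩
      have := (mul_mem_cancel_left hb).1 h1
      exact inv_mem_iff.1 this
    · refine Or.inl ⟨?_, hb⟩
      have h1 := key g b hg hb
      have := h.normal.conj_mem _ h1 g
      simpa [mul_assoc] using this⟩
  omega

end Cfsg.Lib.MaxNorm
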