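import Cfsg.Agent.MaxNorm.Thirteen
import Cfsg.Agent.S3961
import Cfsg.Agent.S2117
import Cfsg.Agent.S4211

/-!
The non-solvable groups with maximal normalisers: `L₂(13)` or `SL₂(13)` times an abelian group of coprime order.
-/

set_option autoImplicit false
set_option linter.unusedSectionVars false
set_option linter.style.haveILetI false

namespace Cfsg.Lib.MaxNorm

open Subgroup Matrix Cfsg.Lib.Known.AutPSL2
open Cfsg.Lib.CITExt.TwoS (mem_nrm nrm_conj solvable_of_normal_quotient)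

universe u

variable {G : Type u} [Group G] [Finite G]

local notation "P₁₃" => Matrix.ProjectiveSpecialLinearGroup (Fin 2) (ZMod 13)

instance fact_thirteen : Fact (Nat.Prime 13) := ⟨by norm_num⟩

theorem card_thirteen : Nat.card P₁₃ = 1092 := by
  have h := Cfsg.Lib.Classical.SmallPSL.card_psl (F := ZMod 13) (q := 13) (ZMod.card 13)
  rw [show Nat.gcd 2 (13 - 1) = 2 from rfl, show 13 * (13 ^ 2 - 1) = 2184 from rfl] at h
  omega

theorem simple_thirteen : IsSimpleGroup P₁₃ :=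
  Cfsg.Lib.Classical.isSimpleGroup_PSL_fin le_rfl fun _ => by rw [Nat.card_zmod]; norm_num

theorem not_comm_thirteen : ¬ IsMulCommutative P₁₃ := by
  intro hc
  haveI := simple_thirteen
  letI : CommGroup P₁₃ := { (inferInstance : Group P₁₃) with mul_comm := fun a b => hc.1.1 a b }
  have hp : (Nat.card P₁₃).Prime := IsSimpleGroup.prime_card
  rw [card_thirteen] at hp
  norm_num at hp

/-- elements generating subgroups inside -/
theorem mem_of_prime_parts {M : Subgroup G} {x : G}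
    (h : ∀ (p k : ℕ), p.Prime → ∀ y ∈ zpowers x, orderOf y = p ^ k → y ∈ M) : x ∈ M := by
  have hd : orderOf x ∣ Nat.card ↥(zpowers x ⊓ M : Subgroup G) := by
    refine (Nat.dvd_iff_prime_pow_dvd_dvd _ _).2 fun p k hp hd => ?_
    have ho : orderOf (x ^ (orderOf x / p ^ k)) = p ^ k := orderOf_pow_orderOf_div (orderOf_pos x).ne' hd
    rw [← ho]
    exact Subgroup.orderOf_dvd_natCard _ (Subgroup.mem_inf.2 ⟨pow_mem (mem_zpowers x) _,
      h p k hp _ (pow_mem (mem_zpowers x) _) ho⟩)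
  have e : zpowers x ⊓ M = zpowers x := Subgroup.eq_of_le_of_card_ge inf_le_left
    (by rw [Nat.card_zpowers]; exact Nat.le_of_dvd Nat.card_pos hd)
  exact (Subgroup.mem_inf.1 (e.ge (mem_zpowers x))).2

/-- a diagonal element of order four -/
def v₁₃ : Matrix.SpecialLinearGroup (Fin 2) (ZMod 13) := ⟨!![5, 0; 0, 8], by decide⟩

/-- the Weyl element -/
def w₁₃ : Matrix.SpecialLinearGroup (Fin 2) (ZMod 13) := ⟨!![0, 1; 12, 0], by decide⟩

/-- an element of order three -/
def c₁₃ : Matrix.SpecialLinearGroup (Fin 2) (ZMod 13) := ⟨!![10, 10; 11, 2], by decide⟩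

/-- equality of matrices is decidable -/
local instance decEqThirteen : DecidableEq (Matrix.SpecialLinearGroup (Fin 2) (ZMod 13)) := fun a b =>
  decidable_of_iff (a.1 = b.1) Subtype.ext_iff.symm

/-- matrices for a four-group and an element of order three normalising it -/
theorem thirteen_four : ∃ v w c : Matrix.SpecialLinearGroup (Fin 2) (ZMod 13),
    v * v = -1 ∧ w * w = -1 ∧ v * w = -(w * v) ∧
    (c * v * c⁻¹ = w ∨ c * v * c⁻¹ = -w) ∧
    (c * w * c⁻¹ = v * w ∨ c * w * c⁻¹ = -(v * w)) ∧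
    w ≠ 1 ∧ w ≠ -1 ∧ w ≠ v ∧ w ≠ -v ∧ v ≠ 1 ∧ v ≠ -1 := by
  exact ⟨v₁₃, w₁₃, c₁₃, by decide +kernel⟩

section

variable (φ : G →* P₁₃) (hφ : Function.Surjective φ) (h : Hyp G) (hR : Group.IsSolvable ↥φ.ker)

include hφ in
theorem not_subnormal_of_map {H : Subgroup G} (h1 : H.map φ ≠ ⊥) (h2 : H.map φ ≠ ⊤) :
    ¬ H.IsSubnormal ∧ ¬ (H ⊔ φ.ker).Normal := by
  refine ⟨fun hs => ?_, fun hn => ?_⟩
  · exact ((hs.map hφ).eq_bot_or_top_of_isSimpleGroup simple_thirteen).elim h1 h2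
  · have hn' := hn.map φ hφ
    rw [Subgroup.map_sup, (Subgroup.map_eq_bot_iff φ.ker).2 le_rfl, sup_bot_eq] at hn'
    exact ((simple_thirteen).eq_bot_or_eq_top_of_normal _ hn').elim h1 h2

theorem map_zpowers_ne_top (x : G) : (zpowers x).map φ ≠ ⊤ := fun e => by
  rw [MonoidHom.map_zpowers] at e
  haveI : IsCyclic P₁₃ := ⟨⟨φ x, fun y => (e.ge (mem_top y) : y ∈ zpowers (φ x))⟩⟩
  exact not_comm_thirteen inferInstance

include hφ h in
theorem ker_normalizes {H : Subgroup G} (h2 : TwoPrime H) (h1 : H.map φ ≠ ⊥) (h3 : H.map φ ≠ ⊤) :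
    φ.ker ≤ normalizer (H : Set G) := by
  obtain ⟨a, b⟩ := not_subnormal_of_map φ hφ h1 h3
  exact h.normalizes a h2 b

include hφ h in
theorem ker_normalizes_zpowers {x : G} {p q a b : ℕ} (hp : p.Prime) (hq : q.Prime)
    (ho : orderOf x ∣ p ^ a * q ^ b) (hx : φ x ≠ 1) : φ.ker ≤ normalizer ((zpowers x : Subgroup G) : Set G) :=
  ker_normalizes φ hφ h (twoPrime_zpowers hp hq ho)
    (by rw [MonoidHom.map_zpowers]; exact fun e => hx (zpowers_eq_bot.1 e)) (map_zpowers_ne_top φ x)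

include hφ h in
/-- elements of coprime prime power orders commute -/
theorem comm_of_primes {x r : G} {p q a b : ℕ} (hp : p.Prime) (hq : q.Prime) (hpq : p ≠ q)
    (hx : orderOf x = p ^ a) (hx1 : φ x ≠ 1) (hr : orderOf r = q ^ b) (hrR : φ r = 1) : Commute r x := by
  haveI := Fact.mk hp
  have hn := ker_normalizes_zpowers φ hφ h hp hp (a := a) (b := 0) (by rw [hx, pow_zero, mul_one]) hx1
    (MonoidHom.mem_ker.2 hrR)
  obtain ⟨k, hk⟩ := mem_zpowers_iff.1 (nrm_conj hn (mem_zpowers x))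
  have hpow : ∀ n : ℕ, r ^ n * x * (r ^ n)⁻¹ = x ^ (k ^ n) := by
    intro n
    induction n with
    | zero => simp
    | succ n ih =>
      rw [show r ^ (n + 1) * x * (r ^ (n + 1))⁻¹ = r * (r ^ n * x * (r ^ n)⁻¹) * r⁻¹ by
        rw [pow_succ']; group, ih, ← conj_zpow, ← hk, ← _root_.zpow_mul, pow_succ']
  -- the exponent is one modulo `p`
  have h1 : (p : ℤ) ∣ k - 1 := by
    have e : φ x ^ k = φ x := by
      rw [← map_zpow, hk, map_mul, map_mul, map_inv, hrR, one_mul, inv_one, mul_one]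
    have hd : (orderOf (φ x) : ℤ) ∣ k - 1 := by
      rw [orderOf_dvd_iff_zpow_eq_one, _root_.zpow_sub_one, e, mul_inv_cancel]
    obtain ⟨i, -, hi⟩ := (Nat.dvd_prime_pow hp).1 (hx ▸ orderOf_map_dvd φ x)
    rcases i with _ | i
    · exact absurd (orderOf_eq_one_iff.1 (by simpa using hi)) hx1
    · refine dvd_trans ?_ hd
      rw [hi]
      exact Int.natCast_dvd_natCast.2 (dvd_pow_self p i.succ_ne_zero)
  have h2 : ((p ^ a : ℕ) : ℤ) ∣ k ^ (p ^ a) - 1 := by
    have := dvd_sub_pow_of_dvd_sub (R := ℤ) (p := p) h1 a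
    rw [one_pow] at this
    refine dvd_trans ?_ this
    push_cast
    exact pow_dvd_pow _ a.le_succ
  have h3 : Commute (r ^ p ^ a) x := by
    refine mul_inv_eq_iff_eq_mul.1 ((hpow _).trans ?_)
    rw [← hx] at h2 ⊢
    have := orderOf_dvd_iff_zpow_eq_one.1 h2
    rwa [_root_.zpow_sub_one, mul_inv_eq_one] at this
  obtain ⟨m, hm⟩ := exists_pow_eq_self_of_coprime (x := r) (n := p ^ a)
    (by rw [hr]; exact Nat.Coprime.pow _ _ ((Nat.coprime_primes hp hq).2 hpq))
  rw [← hm]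
  exact h3.pow_left m

include hφ in
theorem exists_supplement : ∃ K : Subgroup G, K.Normal ∧ K.map φ = ⊤ ∧
    (∀ A : Subgroup G, A.Normal → A.map φ = ⊤ → K ≤ A) ∧ ⁅K, K⁆ = K := by
  obtain ⟨K, ⟨hKn, hKm⟩, hmin⟩ := Set.Finite.exists_minimal (s := {K : Subgroup G | K.Normal ∧ K.map φ = ⊤})
    (Set.toFinite _) ⟨⊤, inferInstance, map_top_of_surjective φ hφ⟩
  haveI := hKn
  haveI := simple_thirteen
  have hcom : ⁅(⊤ : Subgroup P₁₃), (⊤ : Subgroup P₁₃)⁆ = ⊤ := by
    refine (IsSimpleGroup.eq_bot_or_eq_top_of_normal _ inferInstance).resolve_left fun e => ?_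
    exact not_comm_thirteen ⟨⟨fun a b => (Subgroup.commutator_eq_bot_iff_le_centralizer.1 e (mem_top b)) a (mem_top a)⟩⟩
  have hsub : ∀ A : Subgroup G, A.Normal → A.map φ = ⊤ → K ≤ A := by
    intro A hA hAm
    haveI := hA
    have h1 : K ≤ ⁅K, A⁆ := hmin ⟨inferInstance, by rw [Subgroup.map_commutator, hKm, hAm, hcom]⟩
      (commutator_le_left _ _)
    exact h1.trans (commutator_le_right _ _)
  exact ⟨K, hKn, hKm, hsub, le_antisymm (commutator_le_left _ _)
    (hmin ⟨inferInstance, by rw [Subgroup.map_commutator, hKm, hcom]⟩ (commutator_le_left _ _))⟩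

include hφ h in
theorem supplement_comm {K : Subgroup G} (hK : ∀ A : Subgroup G, A.Normal → A.map φ = ⊤ → K ≤ A) {r : G}
    (hr : φ r = 1) : ∀ k ∈ K, Commute r k := by
  haveI := simple_thirteen
  have key : ∀ (q b : ℕ), q.Prime → ∀ y, orderOf y = q ^ b → φ y = 1 → ∀ k ∈ K, Commute y k := by
    intro q b hq y hy hy1
    obtain ⟨p, hp, hpq, hpd⟩ : ∃ p : ℕ, p.Prime ∧ p ≠ q ∧ p ∣ 1092 := by
      rcases eq_or_ne q 2 with rfl | hq2
      · exact ⟨3, Nat.prime_three, by norm_num, by norm_num⟩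
      · exact ⟨2, Nat.prime_two, Ne.symm hq2, by norm_num⟩
    haveI := Fact.mk hp
    set s : Set G := {x | (∃ a, orderOf x = p ^ a) ∧ φ x ≠ 1} with hs
    have hA : normalClosure s ≤ centralizer ({y} : Set G) := by
      refine (closure_le _).2 fun x hx => ?_
      obtain ⟨w, ⟨⟨a, ha⟩, hw1⟩, hc⟩ := Group.mem_conjugatesOfSet_iff.1 hx
      obtain ⟨g, hg⟩ := isConj_iff.1 hc
      refine mem_centralizer_singleton_iff.2 (comm_of_primes φ hφ h hp hq hpq (a := a) (b := b) ?_ ?_ hy hy1).symm.eq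
      · rw [← hg, orderOf_conj_eq, ha]
      · rw [← hg, map_mul, map_mul, map_inv]
        exact fun e => hw1 (conj_eq_one_iff.1 e)
    have htop : (normalClosure s).map φ = ⊤ := by
      refine (IsSimpleGroup.eq_bot_or_eq_top_of_normal _ (normalClosure_normal.map φ hφ)).resolve_left fun e => ?_
      obtain ⟨S⟩ := (inferInstance : Nonempty (Sylow p G))
      have hne : (S : Subgroup G).map φ ≠ ⊥ := by
        have := (S.mapSurjective hφ).ne_bot_of_dvd_card (card_thirteen ▸ hpd)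
        exact this
      obtain ⟨_, ⟨w, hw, rfl⟩, hw1⟩ := (Subgroup.bot_or_exists_ne_one _).resolve_left hne
      obtain ⟨a, ha⟩ := IsPGroup.iff_orderOf.1 S.2 ⟨w, hw⟩
      rw [Subgroup.orderOf_mk] at ha
      exact hw1 (mem_bot.1 (e ▸ ⟨w, subset_normalClosure ⟨⟨a, ha⟩, hw1⟩, rfl⟩))
    intro k hk
    exact (show Commute k y from mem_centralizer_singleton_iff.1 (hA (hK _ normalClosure_normal htop hk))).symm
  intro k hk
  refine Commute.symm (mem_centralizer_singleton_iff.1 (mem_of_prime_parts (M := centralizer ({k} : Set G)) (x := r)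
    fun q b hq y hy hyo => mem_centralizer_singleton_iff.2 (key q b hq y hyo ?_ k hk).eq)).symm
  obtain ⟨n, rfl⟩ := mem_zpowers_iff.1 hy
  rw [map_zpow, hr, _root_.one_zpow]

include hφ in
/-- the isomorphism type of the supplement -/
theorem supplement_iso {K : Subgroup G} (hKm : K.map φ = ⊤) (hKperf : ⁅K, K⁆ = K)
    (hcomm : ∀ r, φ r = 1 → ∀ k ∈ K, Commute r k) :
    (Nonempty (K ≃* P₁₃) ∨ Nonempty (K ≃* Matrix.SpecialLinearGroup (Fin 2) (ZMod 13))) ∧
      Nat.card (φ.comp K.subtype).ker ≤ 2 := by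
  classical
  set σ : ↥K →* P₁₃ := φ.comp K.subtype with hσ
  have hσs : Function.Surjective σ := fun y => by
    obtain ⟨k, hk, e⟩ := hKm.ge (mem_top y)
    exact ⟨⟨k, hk⟩, e⟩
  have hσc : σ.ker ≤ center ↥K := fun k hk => mem_center_iff.2 fun g =>
    Subtype.ext (hcomm (k : G) hk g g.2).symm.eq
  have hKp : commutator ↥K = ⊤ := by
    apply Subgroup.map_injective K.subtype_injective
    rw [map_subtype_commutator, hKperf, ← MonoidHom.range_eq_map, range_subtype]
  let SL := Matrix.SpecialLinearGroup (Fin 2) (ZMod 13)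
  let e₀ : Shrink.{0} ↥K ≃* ↥K := Shrink.mulEquiv
  haveI : Finite (Shrink.{0} ↥K) := Finite.of_equiv _ (equivShrink.{0} ↥K)
  have hperf : commutator SL = ⊤ := Cfsg.Lib.Known.sl2_commutator_eq_top (ZMod 13) (by rw [ZMod.card]; norm_num)
  obtain ⟨η₀, hη₀⟩ := (Cfsg.Agent.S3961.result (G := SL) (Group.isPerfect_def.mpr hperf) (π (F := ZMod 13))
    (QuotientGroup.mk'_surjective _) (QuotientGroup.ker_mk' _).le).2
    (Cfsg.Agent.S2117.result (by rw [ZMod.card]; norm_num) (by rw [ZMod.card]; norm_num)) (Shrink.{0} ↥K)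
    (σ.comp e₀.toMonoidHom) (hσs.comp e₀.surjective) (fun k hk => mem_center_iff.2 fun g => e₀.injective (by
      rw [map_mul, map_mul]
      exact (mem_center_iff.1 (hσc hk) (e₀ g))))
  set η : SL →* ↥K := e₀.toMonoidHom.comp η₀ with hη'
  have hη : ∀ x, σ (η x) = π x := fun x => DFunLike.congr_fun hη₀ x
  have hηs : Function.Surjective η := by
    rw [← MonoidHom.range_eq_top, eq_top_iff, ← hKp, commutator_def, Subgroup.commutator_le]
    intro a _ b _
    obtain ⟨x, hx⟩ := QuotientGroup.mk'_surjective _ (σ a)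
    obtain ⟨y, hy⟩ := QuotientGroup.mk'_surjective _ (σ b)
    rw [← show σ (η x) = _ from hη x] at hx
    rw [← show σ (η y) = _ from hη y] at hy
    rw [Cfsg.Lib.Schur.comm_congr σ hσc hx.symm hy.symm, ← map_commutatorElement]
    exact ⟨_, rfl⟩
  have hc2 : Nat.card ↥(center SL) = 2 := by
    rw [Cfsg.Lib.Classical.card_center_SL, Fintype.card_fin, Nat.card_zmod]
    rfl
  have hle : η.ker ≤ center SL := fun x hx => by
    refine (QuotientGroup.eq_one_iff x).1 ?_
    show π x = 1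
    rw [← hη x, MonoidHom.mem_ker.1 hx, map_one]
  have hcardSL : Nat.card SL = Nat.card P₁₃ * 2 :=
    (Subgroup.card_eq_card_quotient_mul_card_subgroup (center SL)).trans (congrArg _ hc2)
  refine ⟨?_, ?_⟩
  · have hd : Nat.card ↥η.ker ∣ 2 := (Subgroup.card_dvd_of_le hle).trans hc2.dvd
    rcases (Nat.dvd_prime Nat.prime_two).1 hd with e1 | e1
    · exact Or.inr ⟨(MulEquiv.ofBijective η ⟨(MonoidHom.ker_eq_bot_iff η).1 (Subgroup.card_eq_one.1 e1), hηs⟩).symm⟩
    · have e2 : η.ker = center SL := Subgroup.eq_of_le_of_card_ge hle (by rw [e1, hc2])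
      exact Or.inl ⟨(QuotientGroup.quotientKerEquivOfSurjective η hηs).symm.trans (QuotientGroup.quotientMulEquivOfEq e2)⟩
  · have h1 := σ.ker.card_eq_card_quotient_mul_card_subgroup
    rw [Nat.card_congr (QuotientGroup.quotientKerEquivOfSurjective σ hσs).toEquiv] at h1
    have h2 := Nat.card_le_card_of_surjective η hηs
    rw [hcardSL, h1] at h2
    exact Nat.le_of_mul_le_mul_left h2 Nat.card_pos

variable {K : Subgroup G} (hK : K.Normal) (hKm : K.map φ = ⊤) (hcomm : ∀ r, φ r = 1 → ∀ k ∈ K, Commute r k)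
  (hker2 : Nat.card (φ.comp K.subtype).ker ≤ 2)

include hker2 in
theorem ker_inf_sq : ∀ x ∈ K, φ x = 1 → x * x = 1 := fun x hxK hx1 => by
    have hd : orderOf (⟨⟨x, hxK⟩, hx1⟩ : (φ.comp K.subtype).ker) ∣ Nat.card (φ.comp K.subtype).ker := _root_.orderOf_dvd_natCard _
    have hle := Nat.le_of_dvd Nat.card_pos hd
    rw [← orderOf_coe, ← orderOf_coe] at hle
    change orderOf x ≤ _ at hle
    have := orderOf_pos x
    rcases (show orderOf x = 1 ∨ orderOf x = 2 by omega) with e | e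
    · rw [orderOf_eq_one_iff.1 e, one_mul]
    · rw [← pow_two, ← e, pow_orderOf_eq_one]

include hker2 in
theorem ker_inf_odd : ∀ x ∈ K, φ x = 1 → Odd (orderOf x) → x = 1 := fun x hxK hx1 ho => by
  have hKR := ker_inf_sq φ hker2
  rcases (Nat.dvd_prime Nat.prime_two).1 (orderOf_dvd_of_pow_eq_one (by rw [pow_two, hKR x hxK hx1] : x ^ 2 = 1)) with e | e
  · exact orderOf_eq_one_iff.1 e
  · rw [e] at ho
    exact absurd ho (by decide)

include hφ hKm in
theorem card_supplement : Nat.card ↥K = 1092 * Nat.card (φ.comp K.subtype).ker := by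
  have hσs : Function.Surjective (φ.comp K.subtype) := fun y => by
    obtain ⟨k, hk, e⟩ := hKm.ge (mem_top y)
    exact ⟨⟨k, hk⟩, e⟩
  rw [(φ.comp K.subtype).ker.card_eq_card_quotient_mul_card_subgroup,
    Nat.card_congr (QuotientGroup.quotientKerEquivOfSurjective _ hσs).toEquiv, card_thirteen]

include hφ hKm hker2 in
theorem exists_order_supplement : ∀ p : ℕ, p.Prime → p ∣ 1092 → p ≠ 2 → ∃ x ∈ K, orderOf x = p ∧ φ x ≠ 1 := by
  have hcardK := card_supplement φ hφ hKm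
  have hKodd := ker_inf_odd φ hker2
  intro p hp hd hp2
  haveI := Fact.mk hp
  obtain ⟨x, hx⟩ := exists_prime_orderOf_dvd_card' (G := ↥K) p (hcardK ▸ hd.mul_right _)
  rw [← orderOf_coe] at hx
  refine ⟨x, x.2, hx, fun e => ?_⟩
  have := hKodd x x.2 e (hx.symm ▸ hp.odd_of_ne_two hp2)
  rw [this, orderOf_one] at hx
  exact hp.one_lt.ne hx

include hφ h hK hKm hcomm hker2 in
/-- no elements of order 3, 7 or 13 in the radical -/
theorem no_small_primes (hKperf : ⁅K, K⁆ = K) :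
    ∀ (p : ℕ), p = 3 ∨ p = 7 ∨ p = 13 → ∀ r, φ r = 1 → orderOf r ≠ p := by
  haveI := hK
  have hcardK := card_supplement φ hφ hKm
  have hKodd := ker_inf_odd φ hker2
  have hKorder := exists_order_supplement φ hφ hKm hker2
  have hKp : commutator ↥K = ⊤ := by
    apply Subgroup.map_injective K.subtype_injective
    rw [map_subtype_commutator, hKperf, ← MonoidHom.range_eq_map, range_subtype]
  set σ : ↥K →* P₁₃ := φ.comp K.subtype with hσ
  intro p hp3 r hr hro
  have hp : p.Prime := by rcases hp3 with rfl | rfl | rfl <;> norm_num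
  have hp2 : p ≠ 2 := by rcases hp3 with rfl | rfl | rfl <;> norm_num
  have hd : p ∣ 1092 := by rcases hp3 with rfl | rfl | rfl <;> norm_num
  have hd2 : ¬ p ^ 2 ∣ 2 * 1092 := by rcases hp3 with rfl | rfl | rfl <;> norm_num
  haveI := Fact.mk hp
  obtain ⟨x, hxK, hxo, hx1⟩ := hKorder p hp hd hp2
  have hrx : Commute r x := hcomm r hr x hxK
  have hxr : φ (x * r) ≠ 1 := by rwa [map_mul, hr, mul_one]
  have hxro : orderOf (x * r) ∣ p ^ 1 * p ^ 0 := by
    refine orderOf_dvd_of_pow_eq_one ?_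
    rw [pow_one, pow_zero, mul_one, hrx.symm.mul_pow]
    nth_rw 1 [← hxo]
    rw [← hro, pow_orderOf_eq_one, pow_orderOf_eq_one, one_mul]
  set H := zpowers (x * r)
  have hH1 : H.map φ ≠ ⊥ := by rw [MonoidHom.map_zpowers]; exact fun e => hxr (zpowers_eq_bot.1 e)
  have hco := h H (not_subnormal_of_map φ hφ hH1 (map_zpowers_ne_top φ _)).1
    (twoPrime_zpowers hp hp hxro)
  have key : ∀ g ∈ normalizer (H : Set G), ∃ j : ℤ, g * x * g⁻¹ = x ^ j ∧ g * r * g⁻¹ = r ^ j := by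
    intro g hg
    obtain ⟨j, hj⟩ := mem_zpowers_iff.1 (nrm_conj hg (mem_zpowers (x * r)))
    have hgrR : φ (g * r * g⁻¹) = 1 := by rw [map_mul, map_mul, map_inv, hr, mul_one, mul_inv_cancel]
    have hgxK : g * x * g⁻¹ ∈ K := hK.conj_mem x hxK g
    rw [hrx.symm.mul_zpow, show g * (x * r) * g⁻¹ = (g * x * g⁻¹) * (g * r * g⁻¹) by group] at hj
    set d := (x ^ j)⁻¹ * (g * x * g⁻¹) with hd
    have hd' : d = r ^ j * (g * r * g⁻¹)⁻¹ := by
      rw [hd, eq_mul_inv_iff_mul_eq, mul_assoc, ← hj, inv_mul_cancel_left]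
    have hdK : d ∈ K := K.mul_mem (K.inv_mem (zpow_mem hxK j)) hgxK
    have hdR : φ d = 1 := by
      rw [hd', map_mul, map_inv, hgrR, inv_one, mul_one, map_zpow, hr, _root_.one_zpow]
    have hd1 : d = 1 := by
      refine hKodd d hdK hdR ((hp.odd_of_ne_two hp2).of_dvd_nat (orderOf_dvd_of_pow_eq_one ?_))
      have hc : Commute ((x ^ j)⁻¹) (g * x * g⁻¹) := by
        have hh : Commute (r ^ j) (g * x * g⁻¹) := hcomm _ (by rw [map_zpow, hr, _root_.one_zpow]) _ hgxK
        have e2 : (x ^ j)⁻¹ = r ^ j * ((g * x * g⁻¹) * (g * r * g⁻¹))⁻¹ := by rw [← hj]; group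
        rw [e2]
        have hh2 : Commute (g * r * g⁻¹) (g * x * g⁻¹) := hcomm _ hgrR _ hgxK
        exact hh.mul_left ((Commute.refl _).mul_left hh2).inv_left
      rw [hd, hc.mul_pow, inv_pow, ← zpow_natCast (x ^ j), ← _root_.zpow_mul, mul_comm, _root_.zpow_mul, zpow_natCast,
        conj_pow]
      rw [← hxo, pow_orderOf_eq_one]
      simp
    refine ⟨j, (inv_mul_eq_one.1 (hd ▸ hd1)).symm, ?_⟩
    rw [hd'] at hd1
    exact (mul_inv_eq_one.1 hd1).symm
  have hle : normalizer (H : Set G) ≤ normalizer ((zpowers x : Subgroup G) : Set G) := fun g hg => by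
    obtain ⟨j, hj, -⟩ := key g hg
    refine mem_nrm fun y hy => ?_
    obtain ⟨i, rfl⟩ := mem_zpowers_iff.1 hy
    rw [← conj_zpow, hj]
    exact zpow_mem (zpow_mem (mem_zpowers x) j) i
  have hxH : (zpowers x).map φ ≠ ⊥ := by rw [MonoidHom.map_zpowers]; exact fun e => hx1 (zpowers_eq_bot.1 e)
  have e := coatom_eq hco hle fun e =>
    (not_subnormal_of_map φ hφ hxH (map_zpowers_ne_top φ x)).1 (normalizer_eq_top_iff.1 e).isSubnormal
  -- the normaliser in `K` centralises `x`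
  have hcent : ∀ k ∈ K, k ∈ normalizer ((zpowers x : Subgroup G) : Set G) → Commute k x := by
    intro k hk hkn
    obtain ⟨j, hjx, hjr⟩ := key k (e.ge hkn)
    rw [(hcomm r hr k hk).symm.eq, mul_inv_cancel_right] at hjr
    have hj1 : (p : ℤ) ∣ j - 1 := by
      rw [← hro, orderOf_dvd_iff_zpow_eq_one, _root_.zpow_sub_one, ← hjr, mul_inv_cancel]
    rw [← hxo, orderOf_dvd_iff_zpow_eq_one, _root_.zpow_sub_one, mul_inv_eq_one] at hj1
    exact mul_inv_eq_iff_eq_mul.1 (hjx.trans hj1)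
  obtain ⟨S, hS⟩ := (IsPGroup.of_card (p := p) (n := 1)
    (by rw [Nat.card_zpowers, Subgroup.orderOf_mk, hxo, pow_one] :
      Nat.card ↥(zpowers (⟨x, hxK⟩ : ↥K)) = p ^ 1)).exists_le_sylow
  have hSx : (S : Subgroup ↥K) = zpowers (⟨x, hxK⟩ : ↥K) := by
    refine (Subgroup.eq_of_le_of_card_ge hS ?_).symm
    obtain ⟨k, hk⟩ := IsPGroup.iff_card.1 S.2
    rw [Nat.card_zpowers, Subgroup.orderOf_mk, hxo, hk]
    have hdk : p ^ k ∣ 2 * 1092 := by
      have h1 : p ^ k ∣ Nat.card ↥K := hk ▸ Subgroup.card_subgroup_dvd_card _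
      rw [hcardK] at h1
      have h2 : Nat.card σ.ker = 1 ∨ Nat.card σ.ker = 2 := by
        have : 0 < Nat.card σ.ker := Nat.card_pos
        omega
      rcases h2 with e1 | e1 <;> rw [e1] at h1
      · exact h1.trans (by norm_num)
      · exact h1.trans (by norm_num)
    rcases k with _ | _ | k
    · simpa using hp.one_lt.le
    · simp
    · exact absurd ((pow_dvd_pow p (show 2 ≤ k + 1 + 1 by omega)).trans hdk) hd2
  have hN : normalizer ((S : Subgroup ↥K) : Set ↥K) ≤ centralizer ((S : Subgroup ↥K) : Set ↥K) := by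
    intro k hk
    rw [hSx] at hk ⊢
    refine mem_centralizer_iff.2 fun y hy => ?_
    obtain ⟨i, rfl⟩ := mem_zpowers_iff.1 hy
    refine Subtype.ext (Commute.zpow_left (hcent k k.2 (mem_nrm fun z hz => ?_)).symm i).eq
    obtain ⟨i, rfl⟩ := mem_zpowers_iff.1 hz
    rw [← conj_zpow]
    refine zpow_mem ?_ i
    obtain ⟨l, hl⟩ := mem_zpowers_iff.1 (nrm_conj hk (mem_zpowers (⟨x, hxK⟩ : ↥K)))
    exact ⟨l, congrArg Subtype.val hl⟩
  haveI : IsMulCommutative ↥(S : Subgroup ↥K) := hSx ▸ inferInstance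
  letI : CommGroup ↥(S : Subgroup ↥K) := { (inferInstance : Group ↥(S : Subgroup ↥K)) with
    mul_comm := fun a b => IsMulCommutative.is_comm.comm a b }
  refine MonoidHom.not_dvd_card_ker_transferSylow S hN ?_
  have htop : (MonoidHom.transferSylow S hN).ker = ⊤ :=
    top_le_iff.1 (hKp ▸ Abelianization.commutator_subset_ker _)
  rw [htop, card_top, hcardK]
  exact hd.mul_right _

include hφ h hK hKm hcomm hker2 in
/-- the square roots in the radical of elements of `K` which are 2-elements lie in `K` -/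
theorem two_mem_supplement : ∀ r : G, φ r = 1 → r ^ 2 ∈ K → (∃ k, orderOf r = 2 ^ k) → r ∈ K := by
  haveI := hK
  haveI := simple_thirteen
  haveI : Fact (Nat.Prime 2) := ⟨Nat.prime_two⟩
  have hKR := ker_inf_sq φ hker2
  have hσs : Function.Surjective (φ.comp K.subtype) := fun y => by
    obtain ⟨k, hk, e⟩ := hKm.ge (mem_top y)
    exact ⟨⟨k, hk⟩, e⟩
  obtain ⟨v₀, w₀, c₀, hv, hw, hvw, hcv, hcw, hw1, hw1', hwv, hwv', hv1, hv1'⟩ := thirteen_four
  intro r hr hr2 ⟨k, hk⟩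
  by_contra hrK
  set v := π v₀ with hvdef
  set w := π w₀ with hwdef
  set c := π c₀ with hcdef
  have hn1 : ∀ x : Matrix.SpecialLinearGroup (Fin 2) (ZMod 13), π (-x) = π x := fun x => by
    rw [← neg_one_mul, map_mul, Cfsg.Lib.CITExt.neg_one_center, one_mul]
  have hvv : v * v = 1 := by rw [hvdef, ← map_mul, hv, Cfsg.Lib.CITExt.neg_one_center]
  have hww : w * w = 1 := by rw [hwdef, ← map_mul, hw, Cfsg.Lib.CITExt.neg_one_center]
  have hvw' : Commute v w := by
    show v * w = w * v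
    rw [hvdef, hwdef, ← map_mul, ← map_mul, hvw, hn1]
  have hcv' : c * v * c⁻¹ = w := by
    rw [hvdef, hcdef, hwdef, ← map_inv, ← map_mul, ← map_mul]
    rcases hcv with e | e <;> rw [e]
    exact hn1 _
  have hcw' : c * w * c⁻¹ = v * w := by
    rw [hvdef, hcdef, hwdef, ← map_inv, ← map_mul, ← map_mul, ← map_mul]
    rcases hcw with e | e <;> rw [e]
    exact hn1 _
  have hπne : ∀ X Y : Matrix.SpecialLinearGroup (Fin 2) (ZMod 13), X ≠ Y → X ≠ -Y → π X ≠ π Y := by
    intro X Y h1 h2 e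
    obtain ⟨a, ha, hY⟩ := π_eq e
    rcases mul_self_eq_one_iff.1 ha with rfl | rfl
    · exact h1 (sl_ext (by rw [hY, one_smul]))
    · refine h2 (sl_ext ?_)
      rw [Matrix.SpecialLinearGroup.coe_neg, hY, neg_one_smul, neg_neg]
  have hw_one : w ≠ 1 := fun e => hπne w₀ 1 hw1 hw1' (e.trans (map_one π).symm)
  have hv_one : v ≠ 1 := fun e => hπne v₀ 1 hv1 hv1' (e.trans (map_one π).symm)
  have hw_v : w ≠ v := hπne w₀ v₀ hwv hwv'
  -- the four-group
  let V : Subgroup P₁₃ :=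
    { carrier := {x | x = 1 ∨ x = v ∨ x = w ∨ x = v * w}
      one_mem' := Or.inl rfl
      mul_mem' := by
        have e1 : w * v = v * w := hvw'.eq.symm
        have e2 : v * (v * w) = w := by rw [← mul_assoc, hvv, one_mul]
        have e3 : v * w * v = w := by rw [mul_assoc, e1, e2]
        have e4 : w * (v * w) = v := by rw [← mul_assoc, e1, mul_assoc, hww, mul_one]
        have e5 : v * w * w = v := by rw [mul_assoc, hww, mul_one]
        have e6 : v * w * (v * w) = 1 := by rw [← mul_assoc, e3, hww]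
        rintro a b (rfl | rfl | rfl | rfl) (rfl | rfl | rfl | rfl) <;>
          simp [hvv, hww, e1, e2, e3, e4, e5, e6]
      inv_mem' := by
        have e : (v * w)⁻¹ = v * w := by
          rw [_root_.mul_inv_rev, inv_eq_of_mul_eq_one_right hvv, inv_eq_of_mul_eq_one_right hww, hvw'.eq]
        rintro a (rfl | rfl | rfl | rfl)
        exacts [Or.inl inv_one, Or.inr (Or.inl (inv_eq_of_mul_eq_one_right hvv)),
          Or.inr (Or.inr (Or.inl (inv_eq_of_mul_eq_one_right hww))), Or.inr (Or.inr (Or.inr e))] }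
  have hVmem : ∀ x, x ∈ V ↔ x = 1 ∨ x = v ∨ x = w ∨ x = v * w := fun x => Iff.rfl
  obtain ⟨⟨a, haK⟩, ha⟩ := hσs w
  obtain ⟨⟨b₀, hb₀K⟩, hb₀⟩ := hσs v
  obtain ⟨⟨c', hc'K⟩, hc'⟩ := hσs c
  replace ha : φ a = w := ha
  replace hb₀ : φ b₀ = v := hb₀
  replace hc' : φ c' = c := hc'
  have hvz : ∀ x ∈ zpowers v, x = 1 ∨ x = v := fun x hx => by
    obtain ⟨n, rfl⟩ := mem_zpowers_iff.1 hx
    rcases Int.even_or_odd n with ⟨m, rfl⟩ | ⟨m, rfl⟩
    · exact Or.inl (by rw [← two_mul, _root_.zpow_mul, zpow_two, hvv, _root_.one_zpow])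
    · exact Or.inr (by rw [_root_.zpow_add_one, _root_.zpow_mul, zpow_two, hvv, _root_.one_zpow, one_mul])
  set B := (zpowers v).comap φ ⊓ K with hB
  set Q := V.comap φ ⊓ K with hQ
  set y := a * r with hy
  have hrC : ∀ k ∈ K, Commute r k := hcomm r hr
  have hyB : zpowers y ≤ normalizer (B : Set G) := by
    refine zpowers_le.2 (mem_nrm fun b hb => ?_)
    obtain ⟨hb1, hbK⟩ := Subgroup.mem_inf.1 hb
    refine Subgroup.mem_inf.2 ⟨?_, hK.conj_mem b hbK y⟩
    rw [mem_comap, map_mul, map_mul, map_inv, hy, map_mul, hr, mul_one, ha]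
    rcases hvz _ (mem_comap.1 hb1) with e | e <;> rw [e]
    · rw [mul_one, mul_inv_cancel]; exact one_mem _
    · rw [← hvw'.eq, mul_inv_cancel_right]; exact mem_zpowers v
  have hyy : y * y ∈ B := by
    refine Subgroup.mem_inf.2 ⟨?_, ?_⟩
    · rw [mem_comap, map_mul, hy, map_mul, hr, mul_one, ha, hww]; exact one_mem _
    · rw [hy, (hrC a haK).mul_mul_mul_comm a r, ← pow_two r]
      exact K.mul_mem (K.mul_mem haK haK) hr2
  set H := B ⊔ zpowers y with hH
  have hmem : ∀ x ∈ H, x ∈ B ∨ ∃ b ∈ B, x = b * y := by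
    intro x hx
    obtain ⟨b, hb, z, hz, rfl⟩ := (Cfsg.Lib.Coprime.mem_sup_of_le_normalizer hyB).1 hx
    obtain ⟨n, rfl⟩ := mem_zpowers_iff.1 hz
    rcases Int.even_or_odd n with ⟨m, rfl⟩ | ⟨m, rfl⟩
    · exact Or.inl (B.mul_mem hb (by rw [← two_mul, _root_.zpow_mul, zpow_two]; exact zpow_mem hyy m))
    · refine Or.inr ⟨b * (y * y) ^ m, B.mul_mem hb (zpow_mem hyy m), ?_⟩
      rw [_root_.zpow_add_one, _root_.zpow_mul, zpow_two]
      exact (mul_assoc _ _ _).symm
  have hHK : ∀ x ∈ H, x ∈ K → x ∈ B := by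
    intro x hx hxK
    rcases hmem x hx with e | ⟨b, hb, rfl⟩
    · exact e
    · exfalso
      have h1 := K.mul_mem (K.inv_mem (Subgroup.mem_inf.1 hb).2) hxK
      rw [inv_mul_cancel_left, hy] at h1
      exact hrK ((K.mul_mem_cancel_left haK).1 h1)
  have hBfour : ∀ b ∈ B, b ^ 4 = 1 := by
    intro b hb
    obtain ⟨hb1, hbK⟩ := Subgroup.mem_inf.1 hb
    rw [show (4 : ℕ) = 2 * 2 by norm_num, pow_mul, pow_two, pow_two]
    refine hKR _ (K.mul_mem hbK hbK) ?_
    rw [map_mul]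
    rcases hvz _ (mem_comap.1 hb1) with e | e <;> rw [e]
    · rw [one_mul]
    · exact hvv
  have hHeight : ∀ x ∈ H, x ^ 8 = 1 := by
    intro x hx
    rcases hmem x hx with e | ⟨b, hb, rfl⟩
    · rw [show (8 : ℕ) = 4 * 2 by norm_num, pow_mul, hBfour x e, one_pow]
    · rw [show (8 : ℕ) = 2 * 4 by norm_num, pow_mul]
      refine hBfour _ ?_
      rw [pow_two, show b * y * (b * y) = b * (y * b * y⁻¹) * (y * y) by group]
      exact B.mul_mem (B.mul_mem hb (nrm_conj (hyB (mem_zpowers y)) hb)) hyy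
  have h2H : TwoPrime H := twoPrime_of_pGroup (p := 2) fun x => ⟨3, Subtype.ext (by
    rw [SubmonoidClass.coe_pow, coe_one]; exact hHeight x x.2)⟩
  have hHV : H.map φ = V := by
    refine le_antisymm ?_ ?_
    · rintro _ ⟨x, hx, rfl⟩
      rcases hmem x hx with e | ⟨b, hb, rfl⟩
      · rcases hvz _ (mem_comap.1 (Subgroup.mem_inf.1 e).1) with e1 | e1 <;> rw [e1, hVmem] <;> simp
      · rw [map_mul, hy, map_mul, hr, mul_one, ha, hVmem]
        rcases hvz _ (mem_comap.1 (Subgroup.mem_inf.1 hb).1) with e1 | e1 <;> rw [e1] <;> simp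
    · intro x hx
      have hv' : v ∈ H.map φ := ⟨b₀, mem_sup_left (Subgroup.mem_inf.2 ⟨mem_comap.2 (hb₀ ▸ mem_zpowers v), hb₀K⟩), hb₀⟩
      have hw' : w ∈ H.map φ := ⟨y, mem_sup_right (mem_zpowers y), by rw [hy, map_mul, hr, mul_one, ha]⟩
      rcases (hVmem x).1 hx with rfl | rfl | rfl | rfl
      exacts [one_mem _, hv', hw', mul_mem hv' hw']
  have hV1 : V ≠ ⊥ := fun e => hv_one (mem_bot.1 (e ▸ (hVmem v).2 (Or.inr (Or.inl rfl))))
  have hV4 : V ≠ ⊤ := fun e => by
    have h1 : Nat.card ↥V ≤ 4 := by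
      have e1 : (V : Set P₁₃) = {1, v, w, v * w} := Set.ext fun x => hVmem x
      rw [← SetLike.coe_sort_coe, Nat.card_coe_set_eq, e1]
      exact ((Set.ncard_insert_le _ _).trans (Nat.add_le_add_right ((Set.ncard_insert_le _ _).trans
        (Nat.add_le_add_right ((Set.ncard_insert_le _ _).trans (by rw [Set.ncard_singleton])) 1)) 1))
    rw [e, card_top, card_thirteen] at h1
    omega
  have hco := h H (not_subnormal_of_map φ hφ (hHV ▸ hV1) (hHV ▸ hV4)).1 h2H
  have hle : normalizer (H : Set G) ≤ normalizer (Q : Set G) := by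
    refine normalizer_le_of_stable fun g hg q hq => ?_
    obtain ⟨hq1, hqK⟩ := Subgroup.mem_inf.1 hq
    refine Subgroup.mem_inf.2 ⟨?_, hK.conj_mem q hqK g⟩
    obtain ⟨x, hx, hxq⟩ := hHV.ge (mem_comap.1 hq1)
    rw [mem_comap, ← hHV, map_mul, map_mul, map_inv, ← hxq]
    exact ⟨g * x * g⁻¹, nrm_conj hg hx, by rw [map_mul, map_mul, map_inv]⟩
  have hQtop : normalizer (Q : Set G) ≠ ⊤ := fun e => by
    have hn : Q.Normal := normalizer_eq_top_iff.1 e
    have hQV : Q.map φ = V := by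
      refine le_antisymm (Subgroup.map_le_iff_le_comap.2 inf_le_left) fun x hx => ?_
      obtain ⟨⟨q, hqK⟩, hq⟩ := hσs x
      exact ⟨q, Subgroup.mem_inf.2 ⟨mem_comap.2 (show φ q ∈ V from hq.symm ▸ hx), hqK⟩, hq⟩
    exact ((IsSimpleGroup.eq_bot_or_eq_top_of_normal _ (hQV ▸ hn.map φ hφ)).elim hV1 hV4)
  have e := coatom_eq hco hle hQtop
  have hc'N : c' ∈ normalizer (H : Set G) := by
    rw [e]
    refine mem_nrm fun q hq => ?_
    obtain ⟨hq1, hqK⟩ := Subgroup.mem_inf.1 hq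
    refine Subgroup.mem_inf.2 ⟨?_, hK.conj_mem q hqK c'⟩
    rw [mem_comap, map_mul, map_mul, map_inv, hc', hVmem]
    rcases (hVmem _).1 (mem_comap.1 hq1) with e1 | e1 | e1 | e1 <;> rw [e1]
    · exact Or.inl (by group)
    · exact Or.inr (Or.inr (Or.inl hcv'))
    · exact Or.inr (Or.inr (Or.inr hcw'))
    · refine Or.inr (Or.inl ?_)
      rw [show c * (v * w) * c⁻¹ = (c * v * c⁻¹) * (c * w * c⁻¹) by group, hcv', hcw', ← mul_assoc,
        ← hvw'.eq, mul_assoc, hww, mul_one]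
  have hbH : b₀ ∈ H := mem_sup_left (Subgroup.mem_inf.2 ⟨mem_comap.2 (hb₀ ▸ mem_zpowers v), hb₀K⟩)
  have h1 := Subgroup.mem_inf.1 (hHK _ (nrm_conj hc'N hbH) (hK.conj_mem b₀ hb₀K c'))
  have h2 := hvz _ (mem_comap.1 h1.1)
  rw [map_mul, map_mul, map_inv, hc', hb₀, hcv'] at h2
  exact h2.elim hw_one hw_v

include hφ h hR in
/-- the structure -/
theorem structure_of_thirteen : ∃ K S : Subgroup G, K.Normal ∧ S.Normal ∧ K ⊓ S = ⊥ ∧ K ⊔ S = ⊤ ∧
    (Nonempty (K ≃* P₁₃) ∨ Nonempty (K ≃* Matrix.SpecialLinearGroup (Fin 2) (ZMod 13))) ∧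
    IsMulCommutative S ∧ (Nat.card K).Coprime (Nat.card S) := by
  classical
  haveI := simple_thirteen
  haveI : Fact (Nat.Prime 2) := ⟨Nat.prime_two⟩
  obtain ⟨K, hK, hKm, hKmin, hKperf⟩ := exists_supplement φ hφ
  haveI := hK
  have hcomm : ∀ r, φ r = 1 → ∀ k ∈ K, Commute r k := fun r hr => supplement_comm φ hφ h hKmin hr
  obtain ⟨hiso, hker2⟩ := supplement_iso φ hφ hKm hKperf hcomm
  have hKR := ker_inf_sq φ hker2
  have hKodd := ker_inf_odd φ hker2
  have hcardK := card_supplement φ hφ hKm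
  have hKorder := exists_order_supplement φ hφ hKm hker2
  have hnop := no_small_primes φ hφ h hK hKm hcomm hker2 hKperf
  have htwo := two_mem_supplement φ hφ h hK hKm hcomm hker2
  set σ : ↥K →* P₁₃ := φ.comp K.subtype with hσ
  have htwoK : ∀ r : G, φ r = 1 → (∃ k, orderOf r = 2 ^ k) → r ∈ K := by
    intro r hr ⟨k, hk⟩
    induction k generalizing r with
    | zero =>
      rw [pow_zero, orderOf_eq_one_iff] at hk
      exact hk ▸ K.one_mem
    | succ k ih =>
      refine htwo r hr (ih (r ^ 2) (by rw [map_pow, hr, one_pow]) ?_) ⟨k + 1, hk⟩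
      rw [orderOf_pow' r (by norm_num), hk, pow_succ, Nat.gcd_eq_right (dvd_mul_left 2 _),
        Nat.mul_div_cancel _ two_pos]
  -- every cyclic subgroup of the radical is normalised by the radical
  have hcyc : ∀ r s : G, φ r = 1 → φ s = 1 → r * s * r⁻¹ ∈ zpowers s := by
    intro r s hr hs
    have hsR : ∀ y ∈ zpowers s, φ y = 1 := fun y hy => by
      obtain ⟨n, rfl⟩ := mem_zpowers_iff.1 hy
      rw [map_zpow, hs, _root_.one_zpow]
    refine (mem_of_prime_parts (M := (zpowers s).comap (MulAut.conj r).toMonoidHom) (x := s) fun q k hq y hy hyo => ?_)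
    show r * y * r⁻¹ ∈ zpowers s
    have hy1 : φ y = 1 := hsR y hy
    by_cases hq2 : q = 2
    · subst hq2
      rw [(hcomm r hr y (htwoK y hy1 ⟨k, hyo⟩)).eq, mul_inv_cancel_right]
      exact hy
    rcases k with _ | k
    · rw [pow_zero, orderOf_eq_one_iff] at hyo
      rw [hyo, mul_one, mul_inv_cancel]
      exact one_mem _
    have hq3 : q ≠ 3 := fun e => by
      subst e
      refine hnop 3 (Or.inl rfl) (y ^ (orderOf y / 3)) (by rw [map_pow, hy1, one_pow]) ?_
      exact orderOf_pow_orderOf_div (orderOf_pos y).ne' (hyo ▸ dvd_pow_self 3 k.succ_ne_zero)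
    obtain ⟨x, hxK, hxo, hx1⟩ := hKorder 3 Nat.prime_three (by norm_num) (by norm_num)
    have hyx : Commute y x := hcomm y hy1 x hxK
    have ho : orderOf (x * y) ∣ 3 ^ 1 * q ^ (k + 1) := by
      rw [hyx.symm.orderOf_mul_eq_mul_orderOf_of_coprime (by
        rw [hxo, hyo]; exact Nat.Coprime.pow_right _ ((Nat.coprime_primes Nat.prime_three hq).2 (Ne.symm hq3))),
        hxo, hyo, pow_one]
    have hn := ker_normalizes_zpowers φ hφ h Nat.prime_three hq ho (by rwa [map_mul, hy1, mul_one])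
      (MonoidHom.mem_ker.2 hr)
    obtain ⟨j, hj⟩ := mem_zpowers_iff.1 (nrm_conj hn (mem_zpowers (x * y)))
    rw [hyx.symm.mul_zpow, show r * (x * y) * r⁻¹ = (r * x * r⁻¹) * (r * y * r⁻¹) by group,
      (hcomm r hr x hxK).eq, mul_inv_cancel_right] at hj
    set d := (x ^ j)⁻¹ * x with hd
    have hd' : d = y ^ j * (r * y * r⁻¹)⁻¹ := by
      rw [hd, eq_mul_inv_iff_mul_eq, mul_assoc, ← hj, inv_mul_cancel_left]
    have hd1 : d = 1 := by
      refine hKodd d (K.mul_mem (K.inv_mem (zpow_mem hxK j)) hxK) ?_ ?_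
      · rw [hd', map_mul, map_inv, map_mul, map_mul, map_inv, map_zpow, hy1, hr]
        simp
      · refine (by decide : Odd 3).of_dvd_nat (hxo ▸ orderOf_dvd_of_mem_zpowers ?_)
        exact mul_mem (inv_mem (zpow_mem (mem_zpowers x) j)) (mem_zpowers x)
    rw [hd', mul_inv_eq_one] at hd1
    rw [← hd1]
    exact zpow_mem hy j
  -- the radical is commutative
  have hRc : ∀ r s : G, φ r = 1 → φ s = 1 → Commute r s := by
    by_contra hnc
    have hna : ¬ IsMulCommutative ↥φ.ker := fun hc => hnc fun r s hr hs =>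
      congrArg Subtype.val (hc.1.1 ⟨r, hr⟩ ⟨s, hs⟩)
    obtain ⟨Q, E, A, ⟨eQ⟩, -⟩ := Cfsg.Agent.S4211.result hna fun H => ⟨fun s hs r => by
      obtain ⟨n, hn⟩ := mem_zpowers_iff.1 (hcyc (r : G) (s : G) r.2 s.2)
      have : r * s * r⁻¹ = s ^ n := Subtype.ext (by push_cast; exact hn.symm)
      rw [this]
      exact zpow_mem hs n⟩
    set q : ↥Q := eQ.symm (QuaternionGroup.a 1) with hq
    have ho : orderOf (((q : ↥φ.ker) : G)) = 4 := by
      rw [orderOf_coe, orderOf_coe, hq, MulEquiv.orderOf_eq, QuaternionGroup.orderOf_a_one]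
    have h2 := hKR _ (htwoK _ (q : ↥φ.ker).2 ⟨2, ho⟩) (q : ↥φ.ker).2
    have := orderOf_dvd_of_pow_eq_one (show (((q : ↥φ.ker) : G)) ^ 2 = 1 by rw [pow_two, h2])
    rw [ho] at this
    norm_num at this
  let S : Subgroup G :=
    { carrier := {s | φ s = 1 ∧ Odd (orderOf s)}
      one_mem' := ⟨map_one φ, by rw [orderOf_one]; exact odd_one⟩
      mul_mem' := by
        rintro a b ⟨ha, ha'⟩ ⟨hb, hb'⟩
        refine ⟨by rw [map_mul, ha, hb, one_mul], ?_⟩
        exact (ha'.mul hb').of_dvd_nat ((hRc a b ha hb).orderOf_mul_dvd_mul_orderOf)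
      inv_mem' := by
        rintro a ⟨ha, ha'⟩
        exact ⟨by rw [map_inv, ha, inv_one], by rwa [orderOf_inv]⟩ }
  have hSmem : ∀ s, s ∈ S ↔ φ s = 1 ∧ Odd (orderOf s) := fun s => Iff.rfl
  refine ⟨K, S, hK, ⟨fun s hs g => ?_⟩, ?_, ?_, hiso, ?_, ?_⟩
  · obtain ⟨h1, h2⟩ := (hSmem s).1 hs
    exact (hSmem _).2 ⟨by rw [map_mul, map_mul, map_inv, h1, mul_one, mul_inv_cancel], by rwa [orderOf_conj_eq]⟩
  · refine eq_bot_iff.2 fun x hx => mem_bot.2 ?_
    obtain ⟨hxK, hxS⟩ := Subgroup.mem_inf.1 hx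
    exact hKodd x hxK ((hSmem x).1 hxS).1 ((hSmem x).1 hxS).2
  · refine eq_top_iff.2 fun g _ => ?_
    obtain ⟨k, hk, hkg⟩ := hKm.ge (mem_top (φ g))
    have hr : φ (k⁻¹ * g) = 1 := by rw [map_mul, map_inv, hkg, inv_mul_cancel]
    obtain ⟨a, b, ha, hb, hab, hak, hbo⟩ := Cfsg.Lib.Transfer.exists_pPart 2 (k⁻¹ * g)
    have hin : ∀ y ∈ zpowers (k⁻¹ * g), φ y = 1 := fun y hy => by
      obtain ⟨n, rfl⟩ := mem_zpowers_iff.1 hy
      rw [map_zpow, hr, _root_.one_zpow]
    rw [show g = k * a * b by rw [mul_assoc, hab, mul_inv_cancel_left]]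
    exact mul_mem_sup (K.mul_mem hk (htwoK a (hin a ha) hak))
      ((hSmem b).2 ⟨hin b hb, Nat.coprime_two_right.1 hbo⟩)
  · exact ⟨⟨fun a b => Subtype.ext (hRc a b ((hSmem _).1 a.2).1 ((hSmem _).1 b.2).1).eq⟩⟩
  · refine Nat.coprime_of_dvd fun q hq hqK hqS => ?_
    haveI := Fact.mk hq
    obtain ⟨s, hs⟩ := exists_prime_orderOf_dvd_card' (G := ↥S) q hqS
    rw [← orderOf_coe] at hs
    obtain ⟨hs1, hs2⟩ := (hSmem _).1 s.2
    rw [hs] at hs2
    refine hnop q ?_ _ hs1 hs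
    have hd : q ∣ 1092 * 2 := by
      rw [hcardK] at hqK
      have h2 : Nat.card σ.ker ∣ 2 := by
        have : 0 < Nat.card σ.ker := Nat.card_pos
        rcases (show Nat.card σ.ker = 1 ∨ Nat.card σ.ker = 2 by omega) with e | e <;> rw [e]
        exact one_dvd 2
      exact hqK.trans (Nat.mul_dvd_mul_left _ h2)
    have hq2 : q ≠ 2 := fun e => by rw [e] at hs2; exact absurd hs2 (by decide)
    rw [show 1092 * 2 = 2 ^ 3 * 3 * 7 * 13 by norm_num] at hd
    rcases (Nat.Prime.dvd_mul hq).1 hd with hd | hd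
    · rcases (Nat.Prime.dvd_mul hq).1 hd with hd | hd
      · rcases (Nat.Prime.dvd_mul hq).1 hd with hd | hd
        · exact absurd ((Nat.prime_dvd_prime_iff_eq hq Nat.prime_two).1 (hq.dvd_of_dvd_pow hd)) hq2
        · exact Or.inl ((Nat.prime_dvd_prime_iff_eq hq Nat.prime_three).1 hd)
      · exact Or.inr (Or.inl ((Nat.prime_dvd_prime_iff_eq hq (by norm_num)).1 hd))
    · exact Or.inr (Or.inr ((Nat.prime_dvd_prime_iff_eq hq (by norm_num)).1 hd))

end

/-- the theorem -/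
theorem main (h : Hyp G) (hns : ¬ Group.IsSolvable G) :
    ∃ K S : Subgroup G, K.Normal ∧ S.Normal ∧ K ⊓ S = ⊥ ∧ K ⊔ S = ⊤ ∧
      (Nonempty (K ≃* P₁₃) ∨ Nonempty (K ≃* Matrix.SpecialLinearGroup (Fin 2) (ZMod 13))) ∧
      IsMulCommutative S ∧ (Nat.card K).Coprime (Nat.card S) := by
  obtain ⟨R, ⟨hR, hRs⟩, hmax⟩ := Set.Finite.exists_maximal (s := {N : Subgroup G | N.Normal ∧ Group.IsSolvable ↥N})
    (Set.toFinite _) ⟨⊥, inferInstance, inferInstance⟩
  haveI := hR
  have hns' : ¬ Group.IsSolvable (G ⧸ R) := fun hq => hns (solvable_of_normal_quotient R hRs hq)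
  obtain ⟨T, hT⟩ := (h.quotient R).exists_soc hns' (fun N hN hNs => by
    haveI := hN
    set M := N.comap (QuotientGroup.mk' R)
    have hRM : R ≤ M := fun x hx => by
      show QuotientGroup.mk' R x ∈ N
      rw [(QuotientGroup.eq_one_iff x).2 hx |> fun e => (show QuotientGroup.mk' R x = 1 from e)]
      exact N.one_mem
    have hMs : Group.IsSolvable ↥M := by
      let f : ↥M →* ↥N := ((QuotientGroup.mk' R).comp M.subtype).codRestrict N fun x => x.2
      haveI := hNs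
      haveI := hRs
      refine Group.isSolvable_of_ker_le_range (Subgroup.inclusion hRM) f fun x hx => ?_
      have hxR : (x : G) ∈ R := (QuotientGroup.eq_one_iff _).1 (congrArg Subtype.val hx)
      exact ⟨⟨x, hxR⟩, rfl⟩
    have hle : M ≤ R := hmax ⟨inferInstance, hMs⟩ hRM
    refine eq_bot_iff.2 fun y hy => mem_bot.2 ?_
    obtain ⟨x, rfl⟩ := QuotientGroup.mk'_surjective R y
    exact (QuotientGroup.eq_one_iff _).2 (hle hy))
  obtain ⟨e⟩ := hT.psl_thirteen
  set φ : G →* P₁₃ := e.toMonoidHom.comp (QuotientGroup.mk' R) with hφdef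
  have hφ : Function.Surjective φ := e.surjective.comp (QuotientGroup.mk'_surjective R)
  have hker : φ.ker = R := by
    ext x
    rw [MonoidHom.mem_ker, hφdef]
    show e (QuotientGroup.mk' R x) = 1 ↔ x ∈ R
    rw [map_eq_one_iff e e.injective]
    exact QuotientGroup.eq_one_iff x
  exact structure_of_thirteen φ hφ h (hker ▸ hRs)

end Cfsg.Lib.MaxNorm
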