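import Cfsg.Agent.MaxNorm.Basic
import Cfsg.Agent.CITExt.TwoS.Solv
import Cfsg.Agent.S0215

/-!
Normalisers of cyclic subgroups in the almost simple situation.
-/

set_option autoImplicit false
set_option linter.unusedSectionVars false
set_option linter.style.haveILetI false

namespace Cfsg.Lib.MaxNorm

open Subgroup Cfsg.Lib.CITGroups Cfsg.Lib.CITExt
open Cfsg.Lib.CITExt.TwoS (OX ox_le ox_odd ox_conj mem_nrm nrm_conj)

universe u

variable {G : Type u} [Group G] [Finite G] {T : Subgroup G}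

theorem zpowers_ne_bot {x : G} (h : x ≠ 1) : zpowers x ≠ ⊥ := fun e => h (zpowers_eq_bot.1 e)

theorem normalizer_zpowers_le (x : G) (k : ℕ) :
    normalizer ((zpowers x : Subgroup G) : Set G) ≤ normalizer ((zpowers (x ^ k) : Subgroup G) : Set G) := by
  refine normalizer_le_of_stable fun g hg b hb => ?_
  obtain ⟨i, rfl⟩ := mem_zpowers_iff.1 hb
  obtain ⟨j, hj⟩ := mem_zpowers_iff.1 (nrm_conj hg (mem_zpowers x))
  refine ⟨j * i, ?_⟩
  show (x ^ k) ^ (j * i) = g * (x ^ k) ^ i * g⁻¹
  rw [← conj_zpow, ← conj_pow, ← hj, ← zpow_natCast, ← zpow_natCast, ← zpow_mul, ← zpow_mul, ← zpow_mul]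
  ring_nf

theorem Soc.not_le (h : Soc T) {H : Subgroup G} (h2 : TwoPrime H) : ¬ T ≤ H := fun hle => by
  haveI := h.simple
  exact not_solvable_of_simple (T := T) (hna := h.nonab) (h2.mono hle).solvable

theorem Soc.self_norm (h : Soc T) {H : Subgroup G} (hH : H ≠ ⊥) (h2 : TwoPrime H) {g : G}
    (hg : g ∈ normalizer (normalizer (H : Set G) : Set G)) : g ∈ normalizer (H : Set G) := by
  haveI := h.simple
  haveI := h.normal
  set M := normalizer (H : Set G) with hM
  suffices hne : normalizer (M : Set G) ≠ ⊤ by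
    rw [show M = normalizer (M : Set G) from coatom_eq (h.max H hH h2) le_normalizer hne]
    exact hg
  intro htop
  have hMn : M.Normal := normalizer_eq_top_iff.1 htop
  have hTM : T ≤ M := le_of_subnormal h.cent hMn.isSubnormal fun e => hH (le_bot_iff.1 (e ▸ le_normalizer))
  have hnorm : (H.subgroupOf T).Normal := ⟨fun a ha x =>
    show ((x * a * x⁻¹ : ↥T) : G) ∈ H from nrm_conj (K := H) (hTM x.2) ha⟩
  rcases IsSimpleGroup.eq_bot_or_eq_top_of_normal _ hnorm with e | e
  · refine hH (le_bot_iff.1 (h.cent ▸ fun y hy => mem_centralizer_iff.2 fun x hx => ?_))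
    have h1 : x * y * x⁻¹ * y⁻¹ ∈ H ⊓ T := by
      refine ⟨H.mul_mem (nrm_conj (hTM hx) hy) (H.inv_mem hy), ?_⟩
      rw [show x * y * x⁻¹ * y⁻¹ = x * (y * x⁻¹ * y⁻¹) by group]
      exact T.mul_mem hx (h.normal.conj_mem _ (T.inv_mem hx) y)
    rw [subgroupOf_eq_bot.1 e |>.eq_bot, mem_bot] at h1
    exact mul_inv_eq_iff_eq_mul.1 (mul_inv_eq_one.1 h1)
  · exact h.not_le h2 (subgroupOf_eq_top.1 e)

theorem Soc.eq_of_le (h : Soc T) {H K : Subgroup G} (hH : H ≠ ⊥) (h2 : TwoPrime H) (hK : K ≠ ⊥) (h2' : TwoPrime K)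
    (hle : normalizer (H : Set G) ≤ normalizer (K : Set G)) :
    normalizer (H : Set G) = normalizer (K : Set G) :=
  coatom_eq (h.max H hH h2) hle (h.max K hK h2').1

theorem Soc.pow_eq (h : Soc T) {x : G} {p q a b : ℕ} (hp : p.Prime) (hq : q.Prime) (ho : orderOf x ∣ p ^ a * q ^ b)
    {k : ℕ} (hk : x ^ k ≠ 1) :
    normalizer ((zpowers x : Subgroup G) : Set G) = normalizer ((zpowers (x ^ k) : Subgroup G) : Set G) :=
  h.eq_of_le (zpowers_ne_bot fun e => hk (by rw [e, one_pow])) (twoPrime_zpowers hp hq ho) (zpowers_ne_bot hk)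
    (twoPrime_zpowers hp hq ((orderOf_pow_dvd k).trans ho)) (normalizer_zpowers_le x k)

/-- commuting elements of coprime prime power order have the same normaliser -/
theorem Soc.comm_eq (h : Soc T) {x y : G} {p q a b : ℕ} (hp : p.Prime) (hq : q.Prime) (hpq : p ≠ q)
    (hx : orderOf x = p ^ a) (hy : orderOf y = q ^ b) (hx1 : x ≠ 1) (hy1 : y ≠ 1) (hc : Commute x y) :
    normalizer ((zpowers x : Subgroup G) : Set G) = normalizer ((zpowers y : Subgroup G) : Set G) := by
  have hco : (orderOf x).Coprime (orderOf y) := by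
    rw [hx, hy]
    exact Nat.Coprime.pow _ _ ((Nat.coprime_primes hp hq).2 hpq)
  have ho : orderOf (x * y) ∣ p ^ a * q ^ b := by rw [hc.orderOf_mul_eq_mul_orderOf_of_coprime hco, hx, hy]
  have hxy : (x * y) ^ orderOf y = x ^ orderOf y := by rw [hc.mul_pow, pow_orderOf_eq_one, mul_one]
  have hyx : (x * y) ^ orderOf x = y ^ orderOf x := by rw [hc.mul_pow, pow_orderOf_eq_one, one_mul]
  have key : ∀ u v : G, (orderOf u).Coprime (orderOf v) → u ≠ 1 → u ^ orderOf v ≠ 1 ∧
      zpowers (u ^ orderOf v) = zpowers u := by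
    intro u v hco' hu
    obtain ⟨m, hm⟩ := exists_pow_eq_self_of_coprime hco'.symm
    refine ⟨fun e => hu (by rw [← hm, e, one_pow]), le_antisymm (zpowers_le.2 (pow_mem (mem_zpowers u) _)) ?_⟩
    conv_lhs => rw [← hm]
    exact zpowers_le.2 (pow_mem (mem_zpowers _) m)
  obtain ⟨h1, e1⟩ := key x y hco hx1
  obtain ⟨h2, e2⟩ := key y x hco.symm hy1
  have e3 := h.pow_eq hp hq ho (k := orderOf y) (hxy ▸ h1)
  have e4 := h.pow_eq hp hq ho (k := orderOf x) (hyx ▸ h2)
  rw [hxy, e1] at e3
  rw [hyx, e2] at e4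
  exact e3.symm.trans e4

theorem centralizer_le_normalizer_zpowers (t : G) :
    centralizer ({t} : Set G) ≤ normalizer ((zpowers t : Subgroup G) : Set G) := fun g hg => by
  refine mem_nrm fun k hk => ?_
  obtain ⟨i, rfl⟩ := mem_zpowers_iff.1 hk
  rw [((show Commute g t from mem_centralizer_singleton_iff.1 hg).zpow_right i).eq, mul_inv_cancel_right]
  exact zpow_mem (mem_zpowers t) i

theorem normalizer_involution {t : G} (ht : orderOf t = 2) :
    normalizer ((zpowers t : Subgroup G) : Set G) = centralizer ({t} : Set G) := by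
  refine le_antisymm (fun g hg => mem_centralizer_singleton_iff.2 ?_) (centralizer_le_normalizer_zpowers t)
  obtain ⟨n, hn⟩ := mem_zpowers_iff.1 (nrm_conj hg (mem_zpowers t))
  have ht2 : t * t = 1 := mul_self_of_two ht
  rcases Int.even_or_odd n with ⟨k, rfl⟩ | ⟨k, rfl⟩
  · rw [← two_mul, _root_.zpow_mul, zpow_two, ht2, one_zpow] at hn
    rw [conj_eq_one_iff.1 hn.symm, orderOf_one] at ht
    exact absurd ht (by norm_num)
  · rw [zpow_add_one, _root_.zpow_mul, zpow_two, ht2, one_zpow, one_mul] at hn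
    exact mul_inv_eq_iff_eq_mul.1 hn.symm

theorem Soc.cent_coatom (h : Soc T) {t : G} (ht : orderOf t = 2) : IsCoatom (centralizer ({t} : Set G)) := by
  rw [← normalizer_involution ht]
  refine h.max _ (zpowers_ne_bot fun e => ?_) (twoPrime_zpowers Nat.prime_two Nat.prime_two (a := 1) (b := 0) (by simp [ht]))
  rw [e, orderOf_one] at ht
  exact absurd ht (by norm_num)

theorem Soc.cent_self_norm (h : Soc T) {t : G} (ht : orderOf t = 2) {g : G}
    (hg : g ∈ normalizer (centralizer ({t} : Set G) : Set G)) : g ∈ centralizer ({t} : Set G) := by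
  rw [← normalizer_involution ht] at hg ⊢
  refine h.self_norm (zpowers_ne_bot fun e => ?_) (twoPrime_zpowers Nat.prime_two Nat.prime_two (a := 1) (b := 0) (by simp [ht])) hg
  rw [e, orderOf_one] at ht
  exact absurd ht (by norm_num)

/-- elements of odd prime power order centralising an involution generate normal subgroups of its centraliser -/
theorem Soc.odd_part (h : Soc T) {t x : G} (ht : orderOf t = 2) {r a : ℕ} (hr : r.Prime) (hr2 : r ≠ 2)
    (hx : orderOf x = r ^ a) (hx1 : x ≠ 1) (hc : Commute x t) :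
    normalizer ((zpowers x : Subgroup G) : Set G) = centralizer ({t} : Set G) ∧
      x ∈ OX (centralizer ({t} : Set G)) := by
  have e : normalizer ((zpowers x : Subgroup G) : Set G) = centralizer ({t} : Set G) := by
    rw [← normalizer_involution ht]
    refine h.comm_eq hr Nat.prime_two hr2 hx (ht.trans (pow_one 2).symm) hx1 (fun e => ?_) hc
    rw [e, orderOf_one] at ht
    exact absurd ht (by norm_num)
  refine ⟨e, ?_⟩
  set C := centralizer ({t} : Set G)
  have hle : zpowers x ≤ C := zpowers_le.2 (mem_centralizer_singleton_iff.2 hc.eq)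
  haveI : ((zpowers x).subgroupOf C).Normal := ⟨fun n hn g =>
    show ((g * n * g⁻¹ : ↥C) : G) ∈ zpowers x from nrm_conj (K := zpowers x) (e.ge g.2) hn⟩
  have hN : (zpowers x).subgroupOf C ≤ Cfsg.oddCore ↥C := by
    refine Cfsg.Lib.Components.le_pPrimeCore (p := 2) ?_
    rw [Nat.card_congr (subgroupOfEquivOfLe hle).toEquiv, Nat.card_zpowers, hx]
    exact Nat.Coprime.pow_left _ ((Nat.coprime_primes hr Nat.prime_two).2 hr2)
  exact ⟨⟨x, hle (mem_zpowers x)⟩, hN (mem_zpowers x), rfl⟩

/-- some other conjugate of an involution commutes with it -/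
theorem Soc.exists_fused (h : Soc T) {t : G} (ht : orderOf t = 2) :
    ∃ g : G, g * t * g⁻¹ ≠ t ∧ Commute (g * t * g⁻¹) t := by
  haveI : Fact (Nat.Prime 2) := ⟨Nat.prime_two⟩
  haveI := h.simple
  haveI := h.normal
  by_contra hno
  push Not at hno
  obtain ⟨Q, hQ⟩ := (IsPGroup.of_card (p := 2) (n := 1)
    (by rw [Nat.card_zpowers, ht, pow_one] : Nat.card ↥(zpowers t) = 2 ^ 1)).exists_le_sylow
  have htQ : t ∈ (Q : Subgroup G) := hQ (mem_zpowers t)
  -- `t` is central in the Sylow subgroup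
  have hcen : ∀ x ∈ (Q : Subgroup G), Commute x t := by
    by_contra hne
    push Not at hne
    set P := (Q : Subgroup G) ⊓ centralizer ({t} : Set G)
    haveI : Group.IsNilpotent ↥(Q : Subgroup G) := Q.2.isNilpotent
    have hlt := Group.normalizerCondition_of_isNilpotent (G := ↥(Q : Subgroup G)) (P.subgroupOf Q)
      (lt_top_iff_ne_top.2 fun e => by
        obtain ⟨x, hx, hxt⟩ := hne
        exact hxt (mem_centralizer_singleton_iff.1 ((subgroupOf_eq_top.1 e) hx).2))
    obtain ⟨y, hy, hyP⟩ := SetLike.exists_of_lt hlt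
    have htP : t ∈ P := ⟨htQ, mem_centralizer_singleton_iff.2 rfl⟩
    have h1 : (y : G) * t * (y : G)⁻¹ ∈ P := (mem_normalizer_iff.1 hy ⟨t, htQ⟩).1 htP
    have h2 : (y : G) * t * (y : G)⁻¹ = t := by
      by_contra hne'
      exact hno y hne' (mem_centralizer_singleton_iff.1 h1.2)
    exact hyP ⟨y.2, mem_centralizer_singleton_iff.2 (mul_inv_eq_iff_eq_mul.1 h2)⟩
  obtain ⟨N, hN, hodd, hcomm⟩ := Cfsg.Agent.S0215.result Q t ht htQ fun g hg => by
    by_contra hne
    exact hno g hne (hcen _ hg)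
  haveI := hN
  have hNbot : N = ⊥ := by
    by_contra hNb
    have hTN := le_of_subnormal h.cent hN.isSubnormal hNb
    exact not_solvable_of_simple (T := T) (hna := h.nonab)
      (Cfsg.Lib.Coprime.isSolvable_of_le hTN (Cfsg.Agent.PF.isSolvable_of_odd _ hodd))
  have hall : ∀ g : G, Commute t g := fun g => by
    have := hcomm g
    rw [hNbot, mem_bot] at this
    exact mul_inv_eq_iff_eq_mul.1 (mul_inv_eq_one.1 this)
  have hmem : t ∈ centralizer (T : Set G) := mem_centralizer_iff.2 fun x _ => (hall x).symm.eq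
  rw [h.cent, mem_bot] at hmem
  rw [hmem, orderOf_one] at ht
  exact absurd ht (by norm_num)

end Cfsg.Lib.MaxNorm
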