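import Cfsg.Agent.MaxNorm.TwoEnd
import Cfsg.Agent.S0508
import Cfsg.Agent.S2542
import Cfsg.Agent.PrimePowerOrders.Arith
import Mathlib.GroupTheory.SpecificGroups.KleinFour

/-!
The almost simple case: the group is `PSL(2, 13)`.
-/

set_option autoImplicit false
set_option linter.unusedSectionVars false
set_option linter.style.haveILetI false

namespace Cfsg.Lib.MaxNorm

open Subgroup Matrix Cfsg.Lib.CITGroups Cfsg.Lib.CITExt Cfsg.Lib.Known.AutPSL2
open Cfsg.Lib.CITExt.TwoS (OX mem_nrm nrm_conj)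

universe u

variable {G : Type u} [Group G] [Finite G] {T : Subgroup G}

theorem alt_five_inverter : ∃ a b : alternatingGroup (Fin 5), orderOf a = 5 ∧ b * a * b⁻¹ = a⁻¹ := by
  haveI : Fact (Nat.Prime 5) := ⟨Nat.prime_five⟩
  obtain ⟨a, b, h1, h2, h3⟩ : ∃ a b : alternatingGroup (Fin 5), a ^ 5 = 1 ∧ a ≠ 1 ∧ b * a * b⁻¹ = a⁻¹ := by
    decide +kernel
  exact ⟨a, b, orderOf_eq_prime h1 h2, h3⟩

theorem five_key : ∀ c : ZMod 5, (c ^ 11 = 1 ∨ c ^ 5 = 1 ∨ c ^ 6 = 1) → c = 1 ∨ c = -1 := by decide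

/-- no `PSL(2, 11)` -/
theorem Soc.false_eleven (h : Soc T) {F : Type} [Field F] [Fintype F] (hF : Fintype.card F = 11)
    (φ : G ≃* Matrix.ProjectiveSpecialLinearGroup (Fin 2) F) : False := by
  classical
  haveI : Fact (Nat.Prime 5) := ⟨Nat.prime_five⟩
  haveI : Fact (Nat.Prime 11) := ⟨by norm_num⟩
  haveI : CharP F 11 := charP_of_card_eq_prime_pow (p := 11) (f := 1) (by rw [hF, pow_one])
  have hord : ∀ g : G, orderOf g ∣ 11 ∨ orderOf g ∣ 5 ∨ orderOf g ∣ 6 := fun g => by
    have hs := (Cfsg.Lib.GLTwo.psl_spectrum (F := F) 11 (orderOf g)).1 ⟨φ g, φ.orderOf_eq g⟩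
    rw [hF] at hs
    norm_num at hs
    exact hs
  obtain ⟨H, hH, ⟨ψ⟩, -⟩ := Cfsg.Agent.S2542.result (F := F) hF
  obtain ⟨a, b, ha, hab⟩ := alt_five_inverter
  set ι : alternatingGroup (Fin 5) →* G :=
    φ.symm.toMonoidHom.comp (H.subtype.comp ψ.symm.toMonoidHom) with hι
  have hιi : Function.Injective ι := φ.symm.injective.comp (H.subtype_injective.comp ψ.symm.injective)
  set x := ι a with hxdef
  have hx : orderOf x = 5 := by rw [hxdef, orderOf_injective ι hιi, ha]
  have hx1 : x ≠ 1 := fun e => by rw [e, orderOf_one] at hx; omega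
  set K := ι.range with hK
  have hKne : K ≠ ⊤ := fun e => by
    have h1 : Nat.card G = 60 := by
      rw [← card_top (G := G), ← e, hK, ← Nat.card_congr (MonoidHom.ofInjective hιi).toEquiv,
        nat_card_alternatingGroup, Nat.card_fin]
      rfl
    have h2 := H.card_mul_index
    rw [hH, Nat.card_congr ψ.toEquiv, nat_card_alternatingGroup, Nat.card_fin,
      ← Nat.card_congr φ.toEquiv, h1] at h2
    norm_num [Nat.factorial] at h2
  -- the centraliser of `x`
  have hC : ∀ y, Commute y x → y ∈ zpowers x := by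
    intro y hy
    have hy5 : y ^ 5 = 1 := by
      by_contra hne
      obtain ⟨q, hq, hqd, hq5⟩ : ∃ q, q.Prime ∧ q ∣ orderOf y ∧ q ≠ 5 := by
        by_contra hc
        push Not at hc
        have h5 : orderOf y ∣ 5 := by
          rcases hord y with e | e | e
          · rcases (Nat.dvd_prime (by norm_num : Nat.Prime 11)).1 e with e1 | e1
            · rw [e1]; exact one_dvd _
            · have := hc 11 (by norm_num) (dvd_of_eq e1.symm); omega
          · exact e
          · have h2 : ¬ 2 ∣ orderOf y := fun hd => by have := hc 2 Nat.prime_two hd; omega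
            have h3 : ¬ 3 ∣ orderOf y := fun hd => by have := hc 3 Nat.prime_three hd; omega
            have := Nat.le_of_dvd (by norm_num) e
            have := orderOf_pos y
            interval_cases orderOf y <;> omega
        exact hne (orderOf_dvd_iff_pow_eq_one.1 h5)
      have hyo : orderOf (y ^ (orderOf y / q)) = q := orderOf_pow_orderOf_div (orderOf_pos y).ne' hqd
      have ho := (hy.pow_left (orderOf y / q)).orderOf_mul_eq_mul_orderOf_of_coprime (by
        rw [hyo, hx]; exact (Nat.coprime_primes hq Nat.prime_five).2 hq5)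
      rw [hyo, hx] at ho
      have h2 := hq.two_le
      rcases hord (y ^ (orderOf y / q) * x) with e | e | e <;> rw [ho] at e <;>
        have := Nat.le_of_dvd (by norm_num) e <;> (try omega)
      rw [show q = 2 by omega] at e
      norm_num at e
    by_contra hyx
    have hy1 : y ≠ 1 := fun e => hyx (e ▸ one_mem _)
    have hyo : orderOf y = 5 := orderOf_eq_prime hy5 hy1
    have hbot : zpowers x ⊓ zpowers y = ⊥ := by
      by_contra hne
      have h1 : Nat.card ↥(zpowers x ⊓ zpowers y : Subgroup G) ∣ 5 :=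
        (Nat.card_zpowers x).trans hx ▸ Subgroup.card_dvd_of_le inf_le_left
      rcases (Nat.dvd_prime Nat.prime_five).1 h1 with e | e
      · exact hne ((Subgroup.card_eq_one).1 e)
      · refine hyx ?_
        have h2 : zpowers x ⊓ zpowers y = zpowers y :=
          Subgroup.eq_of_le_of_card_ge inf_le_right (by rw [e, Nat.card_zpowers, hyo])
        exact (h2.ge (mem_zpowers y)).1
    have hle : zpowers y ≤ normalizer ((zpowers x : Subgroup G) : Set G) :=
      zpowers_le.2 (centralizer_le_normalizer_zpowers x (mem_centralizer_singleton_iff.2 hy.eq))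
    have h25 := Cfsg.Lib.Coprime.card_sup_of_inf_eq_bot hle hbot
    rw [Nat.card_zpowers, Nat.card_zpowers, hx, hyo] at h25
    have hd : Nat.card ↥(zpowers x ⊔ zpowers y) ∣ 660 := by
      have h2 := H.card_mul_index
      rw [hH, Nat.card_congr ψ.toEquiv, nat_card_alternatingGroup, Nat.card_fin, ← Nat.card_congr φ.toEquiv] at h2
      have h3 : Nat.card G = 660 := by rw [← h2]; norm_num [Nat.factorial]
      exact h3 ▸ Subgroup.card_subgroup_dvd_card _
    rw [h25] at hd
    norm_num at hd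
  -- its normaliser
  have hN : normalizer ((zpowers x : Subgroup G) : Set G) ≤ K := by
    intro g hg
    obtain ⟨j, hj⟩ := mem_zpowers_iff.1 (nrm_conj hg (mem_zpowers x))
    have hxK : zpowers x ≤ K := zpowers_le.2 ⟨a, rfl⟩
    have hpow : ∀ n : ℕ, g ^ n * x * (g ^ n)⁻¹ = x ^ (j ^ n) := by
      intro n
      induction n with
      | zero => simp
      | succ n ih =>
        rw [show g ^ (n + 1) * x * (g ^ (n + 1))⁻¹ = g * (g ^ n * x * (g ^ n)⁻¹) * g⁻¹ by
          rw [pow_succ']; group, ih, ← conj_zpow, ← hj, ← _root_.zpow_mul, pow_succ']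
    have hj5 : ∀ i : ℤ, x ^ i = 1 ↔ (5 : ℤ) ∣ i := fun i => by
      rw [← orderOf_dvd_iff_zpow_eq_one, hx]
      rfl
    have h1 : (5 : ℤ) ∣ j ^ (orderOf g) - 1 := by
      rw [← hj5, _root_.zpow_sub_one, ← hpow, pow_orderOf_eq_one]
      group
    have hjmod : (5 : ℤ) ∣ j - 1 ∨ (5 : ℤ) ∣ j + 1 := by
      have hz : ((j : ZMod 5)) ^ orderOf g = 1 := by
        have := (ZMod.intCast_zmod_eq_zero_iff_dvd _ 5).2 h1
        push_cast at this
        exact sub_eq_zero.1 this
      have hcases : (j : ZMod 5) = 1 ∨ (j : ZMod 5) = -1 := by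
        have key : ∀ c : ZMod 5, (c ^ 11 = 1 ∨ c ^ 5 = 1 ∨ c ^ 6 = 1) → c = 1 ∨ c = -1 := five_key
        refine key _ ?_
        have hpw : ∀ k : ℕ, orderOf g ∣ k → (j : ZMod 5) ^ k = 1 := fun k ⟨m, e⟩ => by
          subst e
          rw [pow_mul, hz, one_pow]
        rcases hord g with e | e | e
        exacts [Or.inl (hpw _ e), Or.inr (Or.inl (hpw _ e)), Or.inr (Or.inr (hpw _ e))]
      rcases hcases with e | e
      · exact Or.inl ((ZMod.intCast_zmod_eq_zero_iff_dvd _ 5).1 (by push_cast; rw [e, sub_self]))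
      · exact Or.inr ((ZMod.intCast_zmod_eq_zero_iff_dvd _ 5).1 (by push_cast; rw [e, neg_add_cancel]))
    rcases hjmod with e | e
    · have h2 : x ^ j = x := by
        have := (hj5 _).2 e
        rwa [_root_.zpow_sub_one, mul_inv_eq_one] at this
      exact hxK (hC g (mul_inv_eq_iff_eq_mul.1 (hj.symm.trans h2)))
    · have h2 : x ^ j = x⁻¹ := by
        have := (hj5 _).2 e
        rwa [_root_.zpow_add_one, mul_eq_one_iff_eq_inv] at this
      have hc : Commute ((ι b)⁻¹ * g) x := by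
        refine mul_inv_eq_iff_eq_mul.1 ?_
        rw [show (ι b)⁻¹ * g * x * ((ι b)⁻¹ * g)⁻¹ = (ι b)⁻¹ * (g * x * g⁻¹) * ι b by group, ← hj, h2, hxdef,
          ← map_inv, ← map_inv, ← map_mul, ← map_mul, ← hab]
        congr 1
        group
      have := K.mul_mem (⟨b, rfl⟩ : ι b ∈ K) (hxK (hC _ hc))
      rwa [mul_inv_cancel_left] at this
  have hN1 := h.max (zpowers x) (zpowers_ne_bot hx1)
    (twoPrime_zpowers Nat.prime_five Nat.prime_five (a := 1) (b := 0) (by rw [hx]; norm_num))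
  have hKN := coatom_eq hN1 hN hKne
  have hnorm : (zpowers a).Normal := ⟨fun y hy c => by
    have h1 : ι y ∈ zpowers x := by
      obtain ⟨n, rfl⟩ := mem_zpowers_iff.1 hy
      rw [map_zpow]
      exact zpow_mem (mem_zpowers x) n
    have h2 := nrm_conj (hKN.ge (⟨c, rfl⟩ : ι c ∈ K)) h1
    rw [← map_inv, ← map_mul, ← map_mul] at h2
    obtain ⟨n, hn⟩ := mem_zpowers_iff.1 h2
    rw [hxdef, ← map_zpow] at hn
    exact hιi hn ▸ zpow_mem (mem_zpowers a) n⟩
  haveI := alternatingGroup.isSimpleGroup_five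
  rcases IsSimpleGroup.eq_bot_or_eq_top_of_normal _ hnorm with e | e
  · rw [zpowers_eq_bot] at e
    rw [e, orderOf_one] at ha
    omega
  · have := congrArg (fun K : Subgroup (alternatingGroup (Fin 5)) => Nat.card ↥K) e
    rw [Nat.card_zpowers, ha, card_top, nat_card_alternatingGroup, Nat.card_fin] at this
    norm_num [Nat.factorial] at this

/-- elements of odd order in the centraliser of the involution -/
theorem mem_zpowers_of_odd {z y : G} {S : Subgroup G} (hy : y ∈ zpowers z ⊔ S) (hodd : Odd (orderOf y))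
    (hS : ∀ x ∈ S, x * x = 1) (hSz : S ≤ normalizer ((zpowers z : Subgroup G) : Set G)) : y ∈ zpowers z := by
  obtain ⟨u, hu, d, hd, rfl⟩ := (Cfsg.Lib.Coprime.mem_sup_of_le_normalizer hSz).1 hy
  have h2 : (u * d) ^ 2 ∈ zpowers z := by
    rw [pow_two, show u * d * (u * d) = u * (d * u * d⁻¹) * (d * d) by group, hS d hd, mul_one]
    exact mul_mem hu (nrm_conj (hSz hd) hu)
  obtain ⟨k, hk⟩ := hodd
  have := pow_mem h2 (k + 1)
  rwa [← pow_mul, show 2 * (k + 1) = orderOf (u * d) + 1 by omega, pow_succ, pow_orderOf_eq_one, one_mul] at this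

/-- the classification in the almost simple case -/
theorem Soc.psl_thirteen (h : Soc T) :
    Nonempty (G ≃* Matrix.ProjectiveSpecialLinearGroup (Fin 2) (ZMod 13)) := by
  classical
  haveI : Fact (Nat.Prime 2) := ⟨Nat.prime_two⟩
  haveI := h.simple
  haveI := h.normal
  obtain ⟨t, z, r, htT, ht, hr, hr2, hz, hzt⟩ := h.exists_odd_comm
  obtain ⟨S, hST, htS, hS4, hS2, hSconj, hC4, hSC, hsup, hSinv⟩ := h.four ht htT hr hr2 hz hzt
  have hz1 : z ≠ 1 := fun e => hr.one_lt.ne (by rw [← hz, e, orderOf_one])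
  obtain ⟨eN, -⟩ := h.odd_part ht hr hr2 (hz.trans (pow_one r).symm) hz1 hzt
  have hSz : (S : Subgroup G) ≤ normalizer ((zpowers z : Subgroup G) : Set G) := eN.symm ▸ hSC
  have hCodd : ∀ y : G, Commute y t → Odd (orderOf y) → y ∈ zpowers z := fun y hy ho =>
    mem_zpowers_of_odd (hsup.ge (mem_centralizer_singleton_iff.2 hy.eq)) ho hS2 hSz
  have hzc : ∀ y ∈ zpowers z, Commute t y := fun y hy => by
    obtain ⟨n, rfl⟩ := mem_zpowers_iff.1 hy
    exact hzt.symm.zpow_right n
  -- the socle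
  set S₁ : Sylow 2 ↥T := S.subtype hST with hS₁
  have hS₁c : (S₁ : Subgroup ↥T) = (S : Subgroup G).subgroupOf T := rfl
  have hS14 : Nat.card ↥(S₁ : Subgroup ↥T) = 4 := by
    rw [hS₁c, Nat.card_congr (subgroupOfEquivOfLe hST).toEquiv, hS4]
  haveI : IsKleinFour ↥(S₁ : Subgroup ↥T) := ⟨hS14, by
    haveI : Nontrivial ↥(S₁ : Subgroup ↥T) := Finite.one_lt_card_iff_nontrivial.1 (by omega)
    refine (Monoid.exponent_eq_prime_iff Nat.prime_two).2 fun g hg => ?_
    refine orderOf_eq_prime ?_ hg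
    rw [pow_two]
    exact Subtype.ext (Subtype.ext (hS2 _ g.2))⟩
  have hdi : Nonempty ((S₁ : Subgroup ↥T) ≃* DihedralGroup 2) := IsKleinFour.nonempty_mulEquiv
  set t₁ : ↥T := ⟨t, htT⟩ with ht₁
  set O := OX (centralizer ({t₁} : Set ↥T)) with hO
  have hOz : ∀ y ∈ O, ((y : ↥T) : G) ∈ zpowers z ∧ Commute y t₁ := fun y hy => by
    have hc : Commute y t₁ := mem_centralizer_singleton_iff.1 (Cfsg.Lib.CITExt.TwoS.ox_le _ hy)
    refine ⟨hCodd _ (congrArg Subtype.val hc.eq) ?_, hc⟩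
    rw [orderOf_coe]
    exact (Cfsg.Lib.CITExt.TwoS.ox_odd _).of_dvd_nat (Subgroup.orderOf_dvd_natCard _ hy)
  have ht₁S : t₁ ∈ (S₁ : Subgroup ↥T) := htS
  have ht₁C : t₁ ∈ centralizer (O : Set ↥T) := mem_centralizer_iff.2 fun y hy => (hOz y hy).2.eq
  have hout : ∀ s ∈ (S₁ : Subgroup ↥T), s ∉ zpowers t₁ → ∀ y ∈ O, s * y * s⁻¹ = y⁻¹ := fun s hs hst y hy =>
    Subtype.ext (hSinv _ hs (fun e => hst (by rw [show s = 1 from Subtype.ext e]; exact one_mem _))
      (fun e => hst (by rw [show s = t₁ from Subtype.ext e]; exact mem_zpowers t₁)) _ (hOz y hy).1)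
  obtain ⟨F, i1, i2, hodd, ⟨e⟩⟩ := Cfsg.Agent.S0508.result S₁ 2 le_rfl hdi t₁ (by rw [ht₁, orderOf_mk, ht]) ht₁S
    (fun s hs => Subtype.ext (mem_centralizer_singleton_iff.1 (hSC hs))) O rfl
    (fun hne => by
      have hSO : (S₁ : Subgroup ↥T) ⊓ centralizer (O : Set ↥T) = zpowers t₁ := by
        refine le_antisymm (fun s hs => ?_) (zpowers_le.2 ⟨ht₁S, ht₁C⟩)
        by_contra hst
        obtain ⟨y, hy, hy1⟩ := O.bot_or_exists_ne_one.resolve_left hne
        have h1 := hout s (Subgroup.mem_inf.1 hs).1 hst y hy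
        rw [← (mem_centralizer_iff.1 (Subgroup.mem_inf.1 hs).2 y hy), mul_inv_cancel_right] at h1
        have hd : orderOf y ∣ 2 := orderOf_dvd_of_pow_eq_one (by rw [pow_two]; nth_rw 1 [h1]; exact inv_mul_cancel y)
        exact hy1 (eq_one_of_two_odd (by
          rcases (Nat.dvd_prime Nat.prime_two).1 hd with e | e
          · exact ⟨0, e⟩
          · exact ⟨1, e⟩)
          ((Cfsg.Lib.CITExt.TwoS.ox_odd _).of_dvd_nat (Subgroup.orderOf_dvd_natCard _ hy)))
      rw [hSO]
      refine ⟨inferInstance, ?_⟩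
      have h1 := Subgroup.card_mul_index ((zpowers t₁).subgroupOf (S₁ : Subgroup ↥T))
      rw [Nat.card_congr (subgroupOfEquivOfLe (zpowers_le.2 ht₁S)).toEquiv, Nat.card_zpowers, ht₁, orderOf_mk, ht,
        hS14] at h1
      show ((zpowers t₁).subgroupOf (S₁ : Subgroup ↥T)).index = 2
      rw [ht₁]
      omega)
    (fun s hs hsO => hout s hs (fun hst => hsO ((zpowers_le.2 ht₁C) hst)))
    (fun Y hYO hY1 g hg => by
      obtain ⟨y, hy, hy1⟩ := Y.bot_or_exists_ne_one.resolve_left hY1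
      have hyz := (hOz y (hYO hy)).1
      have hgy := (hOz _ (hYO (nrm_conj hg hy))).1
      have hge : zpowers ((y : ↥T) : G) = zpowers z := by
        refine Subgroup.eq_of_le_of_card_ge (zpowers_le.2 hyz) ?_
        rw [Nat.card_zpowers, Nat.card_zpowers, hz]
        rcases (Nat.dvd_prime hr).1 (hz ▸ orderOf_dvd_of_mem_zpowers hyz) with e | e
        · exact absurd (Subtype.ext (orderOf_eq_one_iff.1 e)) hy1
        · rw [e]
      refine mem_centralizer_singleton_iff.2 (Subtype.ext ?_)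
      refine mem_centralizer_singleton_iff.1 (eN.le (mem_nrm fun k hk => ?_))
      rw [← hge] at hk
      obtain ⟨n, rfl⟩ := mem_zpowers_iff.1 hk
      rw [← conj_zpow]
      exact zpow_mem (by simpa using hgy) n)
  set p := Fintype.card F with hpdef
  have hp : p.Prime := h.field_prime hodd e
  haveI := Fact.mk hp
  haveI : CharP F p := charP_of_card_eq_prime_pow (p := p) (f := 1) (by rw [pow_one])
  have hidx := h.index_le_two hp e
  have hTtop : T = ⊤ := by
    have hd : T.index ∣ (S : Subgroup G).index := index_dvd_of_le hST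
    have h2 : ¬ 2 ∣ T.index := fun h2 => S.not_dvd_index (h2.trans hd)
    have h0 : T.index ≠ 0 := index_ne_zero_of_finite
    exact index_eq_one.1 (by omega)
  obtain ⟨φ⟩ := iso_of_top hTtop e
  have hp2 : p ≠ 2 := fun e1 => Nat.not_even_iff_odd.2 hodd (by
    show Even p
    rw [e1]; norm_num)
  have hpo : p % 2 = 1 := hp.eq_two_or_odd.resolve_left hp2
  have hg2 : Nat.gcd 2 (p - 1) = 2 := Nat.gcd_eq_left (by omega)
  have hspec : ∀ n : ℕ, (∃ g : G, orderOf g = n) ↔ n ∣ p ∨ n ∣ (p - 1) / 2 ∨ n ∣ (p + 1) / 2 := by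
    intro n
    have := Cfsg.Lib.GLTwo.psl_spectrum (F := F) p n
    rw [← hpdef, hg2] at this
    refine Iff.trans ⟨fun ⟨g, hg⟩ => ?_, fun ⟨g, hg⟩ => ?_⟩ this
    · exact ⟨φ g, by rw [MulEquiv.orderOf_eq, hg]⟩
    · exact ⟨φ.symm g, by rw [MulEquiv.orderOf_eq, hg]⟩
  have hr3 : 3 ≤ r := by
    have := hr.two_le
    omega
  have h2r : orderOf (z * t) = 2 * r := by
    rw [hzt.orderOf_mul_eq_mul_orderOf_of_coprime (by rw [hz, ht]; exact (Nat.coprime_primes hr Nat.prime_two).2 hr2),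
      hz, ht, mul_comm]
  have hp2r : ¬ 2 * r ∣ p := fun hd => by
    have := (Nat.prime_dvd_prime_iff_eq Nat.prime_two hp).1 ((dvd_mul_right 2 r).trans hd)
    omega
  obtain ⟨m, n, hm2, hn2, hmn, hmr, hmem⟩ : ∃ m n : ℕ, 2 ∣ m ∧ n % 2 = 1 ∧ m + n = p ∧ 2 * r ∣ m ∧
      ((m = (p - 1) / 2 ∧ n = m + 1) ∨ (m = (p + 1) / 2 ∧ n + 1 = m)) := by
    rcases ((hspec _).1 ⟨_, h2r⟩).resolve_left hp2r with e1 | e1
    · have := (dvd_mul_right 2 r).trans e1
      exact ⟨(p - 1) / 2, (p + 1) / 2, this, by omega, by omega, e1, Or.inl ⟨rfl, by omega⟩⟩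
    · have := (dvd_mul_right 2 r).trans e1
      exact ⟨(p + 1) / 2, (p - 1) / 2, this, by omega, by omega, e1, Or.inr ⟨rfl, by omega⟩⟩
  have hm0 : 0 < m := by
    rcases hmem with ⟨e1, -⟩ | ⟨e1, -⟩ <;> have := hp.two_le <;> omega
  have hm : m = 2 * r := by
    refine Nat.dvd_antisymm ?_ hmr
    obtain ⟨w, hw⟩ := (hspec m).2 (Or.inr (by
      rcases hmem with ⟨e1, -⟩ | ⟨e1, -⟩
      · exact Or.inl (dvd_of_eq e1)
      · exact Or.inr (dvd_of_eq e1)))
    set a := w ^ (orderOf w / 2) with hadef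
    have ha : orderOf a = 2 := orderOf_pow_orderOf_div (orderOf_pos w).ne' (hw ▸ hm2)
    obtain ⟨Q, hQ⟩ := (IsPGroup.of_card (p := 2) (n := 1)
      (by rw [Nat.card_zpowers, ha, pow_one] : Nat.card ↥(zpowers a) = 2 ^ 1)).exists_le_sylow
    obtain ⟨g, hg⟩ := MulAction.exists_smul_eq G Q S
    have h1 : g * a * g⁻¹ ∈ (S : Subgroup G) := by
      rw [← hg, Sylow.coe_subgroup_smul]
      exact ⟨a, hQ (mem_zpowers a), rfl⟩
    obtain ⟨g', hg'⟩ := hSconj _ h1 fun e1 => ne_one_of_two ha (conj_eq_one_iff.1 e1)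
    set w' := (g'⁻¹ * g) * w * (g'⁻¹ * g)⁻¹ with hw'
    have hw'C : w' ∈ centralizer ({t} : Set G) := by
      have hc := (Commute.self_pow w (orderOf w / 2)).map (MulAut.conj (g'⁻¹ * g)).toMonoidHom
      refine mem_centralizer_singleton_iff.2 ?_
      have et : t = (g'⁻¹ * g) * a * (g'⁻¹ * g)⁻¹ := by
        rw [show (g'⁻¹ * g) * a * (g'⁻¹ * g)⁻¹ = g'⁻¹ * (g * a * g⁻¹) * g' by group, ← hg']
        group
      rw [et, hw']
      exact hc.eq
    rw [← hw, ← orderOf_conj_eq (g := g'⁻¹ * g) (x := w), ← hw']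
    rw [← hsup] at hw'C
    obtain ⟨u, hu, d, hd, hud⟩ := (Cfsg.Lib.Coprime.mem_sup_of_le_normalizer hSz).1 hw'C
    rw [← hud]
    have hur : u ^ r = 1 := orderOf_dvd_iff_pow_eq_one.1 (hz ▸ orderOf_dvd_of_mem_zpowers hu)
    refine orderOf_dvd_of_pow_eq_one ?_
    rw [pow_mul]
    have hsq : (u * d) ^ 2 = u * (d * u * d⁻¹) := by
      rw [pow_two, show u * d * (u * d) = u * (d * u * d⁻¹) * (d * d) by group, hS2 d hd, mul_one]
    by_cases hd1 : d = 1 ∨ d = t
    · have hc : Commute d u := by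
        rcases hd1 with rfl | rfl
        · exact Commute.one_left _
        · exact hzc u hu
      rw [hsq, hc.eq, mul_inv_cancel_right, ← pow_two, ← pow_mul, mul_comm, pow_mul, hur, one_pow]
    · push Not at hd1
      rw [hsq, hSinv d hd hd1.1 hd1.2 u hu, mul_inv_cancel, one_pow]
  -- the odd torus
  have hnr : n = 2 * r + 1 ∨ n + 1 = 2 * r := by
    rcases hmem with ⟨-, e1⟩ | ⟨-, e1⟩ <;> omega
  have hn3 : 3 < n := by
    have := hr.two_le
    omega
  have hnp : n ≠ p := by omega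
  obtain ⟨w, hw⟩ := (Cfsg.Lib.GLTwo.psl_spectrum (F := F) p n).2 (by
    rw [← hpdef, hg2]
    rcases hmem with ⟨e1, e2⟩ | ⟨e1, e2⟩
    · exact Or.inr (Or.inr (dvd_of_eq (by omega)))
    · exact Or.inr (Or.inl (dvd_of_eq (by omega))))
  obtain ⟨j, hj, hjw⟩ := exists_inverter p hp2 (w := w) (by omega) (by rw [hw]; exact hnp)
  have hnprime : n.Prime := by
    have hwo : orderOf (φ.symm w) = n := by rw [MulEquiv.orderOf_eq, hw]
    have := h.inverted_prime (w := φ.symm w) (j := φ.symm j) (hwo.symm ▸ Nat.odd_iff.2 hn2)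
      (fun e1 => by rw [e1, orderOf_one] at hwo; omega) (by rw [MulEquiv.orderOf_eq, hj])
      (by rw [← map_inv, ← map_inv, ← map_mul, ← map_mul, hjw])
    rwa [hwo] at this
  have hr3' : r = 3 := by
    by_contra hne
    have h3 : ¬ 3 ∣ r := fun hd => hne ((Nat.prime_dvd_prime_iff_eq Nat.prime_three hr).1 hd).symm
    have hn' : ¬ 3 ∣ n := fun hd => by
      have := (Nat.prime_dvd_prime_iff_eq Nat.prime_three hnprime).1 hd
      omega
    have hp' : ¬ 3 ∣ p := fun hd => by
      have := (Nat.prime_dvd_prime_iff_eq Nat.prime_three hp).1 hd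
      omega
    rw [Nat.dvd_iff_mod_eq_zero] at h3 hn' hp'
    obtain ⟨k, rfl | rfl⟩ : ∃ k, r = 3 * k + 1 ∨ r = 3 * k + 2 := ⟨r / 3, by omega⟩ <;>
      rcases hnr with e1 | e1
    all_goals
      have hp4 : p = n + m := by omega
      subst hm
      omega
  rcases hnr with e1 | e1
  · have hp13 : Fintype.card F = 13 := by omega
    haveI : Fact (Nat.Prime 13) := ⟨by norm_num⟩
    obtain ⟨f⟩ := Cfsg.Lib.PrimePowerOrders.psl_congr (F := F) (K := ZMod 13) (by rw [hp13, ZMod.card])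
    exact ⟨φ.trans f⟩
  · exact (h.false_eleven (F := F) (by omega) φ).elim

end Cfsg.Lib.MaxNorm
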