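import Cfsg.Agent.MaxNorm.Four
import Cfsg.Agent.MaxNorm.Linear
import Cfsg.Agent.Transfer.IndexPrimeTo
import Cfsg.Agent.Coprime.SolvableBasics
import Cfsg.Agent.Classical.Misc.SmallPSL
import Cfsg.Agent.Schur.LThreeFour
import Cfsg.Agent.CITExt.TwoS.Reduction
import Cfsg.Agent.Known.SLTwo.Unip
import Cfsg.Agent.Known.SLTwo.Tori
import Cfsg.Agent.Suz.Sylow

/-!
Some involution of the socle commutes with an element of odd prime order.
-/

set_option autoImplicit false
set_option linter.unusedSectionVars false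
set_option linter.style.haveILetI false

namespace Cfsg.Lib.MaxNorm

open Subgroup Matrix Cfsg.Lib.CITGroups Cfsg.Lib.CITExt Cfsg.Lib.Known.AutPSL2
open Cfsg.Lib.CITExt.TwoS (mem_nrm nrm_conj solvable_of_small solvable_of_normal_quotient)

universe u

variable {G : Type u} [Group G] [Finite G] {T : Subgroup G}

section Inverter

variable {F : Type} [Field F] [Fintype F] (p : ℕ) [Fact p.Prime] [CharP F p]

/-- elements of the tori are inverted by involutions -/
theorem exists_inverter (hp2 : p ≠ 2) {w : Matrix.ProjectiveSpecialLinearGroup (Fin 2) F} (hn : 2 < orderOf w)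
    (hnp : orderOf w ≠ p) : ∃ j, orderOf j = 2 ∧ j * w * j⁻¹ = w⁻¹ := by
  have h2 : (2 : F) ≠ 0 := by
    have : ((2 : ℕ) : F) ≠ 0 := fun e0 => hp2 ((Nat.prime_dvd_prime_iff_eq Fact.out Nat.prime_two).1
      ((CharP.cast_eq_zero_iff F p 2).1 e0))
    simpa using this
  obtain ⟨g, rfl⟩ : ∃ g, π g = w := QuotientGroup.mk'_surjective _ w
  have hns : Cfsg.Lib.GLTwo.NonScalar (g : Matrix (Fin 2) (Fin 2) F) := by
    refine Cfsg.Lib.GLTwo.nonScalar_of_ne ?_ ?_ <;> rintro rfl
    · rw [map_one, orderOf_one] at hn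
      omega
    · rw [show π (-1 : Matrix.SpecialLinearGroup (Fin 2) F) = 1 from neg_one_center, orderOf_one] at hn
      omega
  have hreg : Cfsg.Lib.GLTwo.Reg g := by
    refine ⟨hns, fun ht => ?_⟩
    set r := (g : Matrix (Fin 2) (Fin 2) F).trace / 2 with hr
    have hr1 : r * r = 1 := by
      rw [hr]
      field_simp
      linear_combination ht
    have h := Cfsg.Lib.GLTwo.pow_char_of_trace p hr1 (g := g) (by rw [hr]; field_simp; ring)
    have hc : g ^ p ∈ Subgroup.center _ := by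
      refine Matrix.SpecialLinearGroup.mem_center_iff.2 ⟨r ^ p, ?_, ?_⟩
      · rw [← pow_mul, show p * Fintype.card (Fin 2) = 2 * p by simp [mul_comm], pow_mul, pow_two, hr1, one_pow]
      · rw [h]
        ext i j
        fin_cases i <;> fin_cases j <;> simp
    have hd := orderOf_dvd_of_pow_eq_one (show π g ^ p = 1 by
      rw [← map_pow]; exact (QuotientGroup.eq_one_iff _).2 hc)
    rcases (Nat.dvd_prime Fact.out).1 hd with e | e
    · omega
    · exact hnp e
  obtain ⟨y, hy⟩ := hreg.exists_inv h2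
  have hyn := (hreg.mem_normalizer_iff h2).2 (Or.inr hy)
  have hyC : y ∉ centralizer ({g} : Set (Matrix.SpecialLinearGroup (Fin 2) F)) := fun hm =>
    hreg.ne_inv h2 (hy.symm.trans (Cfsg.Lib.GLTwo.mem_cen_iff_conj.1 hm))
  have hinv : π y * π g * (π y)⁻¹ = (π g)⁻¹ := by rw [← map_inv, ← map_inv, ← map_mul, ← map_mul, hy]
  refine ⟨π y, orderOf_eq_prime ?_ fun e => ?_, hinv⟩
  · rw [pow_two, ← map_mul, hreg.sq_eq h2 hyn hyC]
    exact neg_one_center
  · rw [e, one_mul, inv_one, mul_one] at hinv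
    have hd : orderOf (π g) ∣ 2 := orderOf_dvd_of_pow_eq_one (by
      rw [pow_two]; nth_rw 1 [hinv]; exact inv_mul_cancel _)
    have := Nat.le_of_dvd two_pos hd
    omega

end Inverter

section

variable (h : Soc T) (hA : ∀ t ∈ T, orderOf t = 2 → IsPGroup 2 ↥(centralizer ({t} : Set G)))
include h hA

theorem Soc.cent_is_sylow {t : G} (htT : t ∈ T) (ht : orderOf t = 2) :
    ∃ S : Sylow 2 G, (S : Subgroup G) = centralizer ({t} : Set G) :=
  exists_sylow_eq (hA t htT ht) fun _ hg => h.cent_self_norm ht hg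

/-- the centralisers meet the socle in Sylow subgroups -/
theorem Soc.cent_inf_sylow {t : G} (htT : t ∈ T) (ht : orderOf t = 2) :
    ∃ Q : Sylow 2 ↥T, (Q : Subgroup ↥T) = (centralizer ({t} : Set G)).subgroupOf T := by
  haveI := h.normal
  haveI : Fact (Nat.Prime 2) := ⟨Nat.prime_two⟩
  obtain ⟨S, hS⟩ := h.cent_is_sylow hA htT ht
  obtain ⟨Q, hQ⟩ := Cfsg.Lib.Transfer.exists_sylow_subgroupOf S T
  exact ⟨Q, by rw [hQ, hS]⟩

/-- Sylow 2-subgroups of the socle are self-normalising -/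
theorem Soc.sylow_self (Q : Sylow 2 ↥T) : ∀ g ∈ normalizer ((Q : Subgroup ↥T) : Set ↥T), g ∈ (Q : Subgroup ↥T) := by
  haveI := h.normal
  haveI : Fact (Nat.Prime 2) := ⟨Nat.prime_two⟩
  set Q' := (Q : Subgroup ↥T).map T.subtype with hQ'
  have hQp : IsPGroup 2 ↥Q' := Q.2.map _
  obtain ⟨S, hS⟩ := hQp.exists_le_sylow
  have hST : (S : Subgroup G).subgroupOf T = Q := by
    refine Q.3 ?_ fun x hx => hS ⟨x, hx, rfl⟩
    exact S.2.comap_of_injective T.subtype T.subtype_injective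
  have hQ1 : Q' ≠ ⊥ := fun e => by
    have hc : Nat.card ↥(Q : Subgroup ↥T) ≤ 2 := by
      rw [Nat.card_congr ((Q : Subgroup ↥T).equivMapOfInjective T.subtype T.subtype_injective).toEquiv, ← hQ', e,
        card_bot]
      norm_num
    haveI := h.simple
    exact not_solvable_of_simple (T := T) (hna := h.nonab) (solvable_of_small Q hc)
  haveI : Group.IsNilpotent ↥(S : Subgroup G) := S.2.isNilpotent
  haveI hnorm : (Q'.subgroupOf S).Normal := ⟨fun x hx y => by
    obtain ⟨a, ha, hax⟩ := hx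
    have hT' : (y : G) * a * (y : G)⁻¹ ∈ T := h.normal.conj_mem _ a.2 _
    refine ⟨⟨_, hT'⟩, hST.le ?_, ?_⟩
    · exact mul_mem (mul_mem y.2 (hS ⟨a, ha, rfl⟩)) (inv_mem y.2)
    · show (y : G) * a * (y : G)⁻¹ = ((y * x * y⁻¹ : ↥(S : Subgroup G)) : G)
      have hax' : (a : G) = (x : G) := hax
      push_cast
      rw [hax']⟩
  have hne : Q'.subgroupOf S ⊓ center ↥(S : Subgroup G) ≠ ⊥ :=
    Cfsg.Lib.Coprime.inf_center_ne_bot _ fun e => hQ1 (le_bot_iff.1 fun x hx => by
      have : (⟨x, hS hx⟩ : ↥(S : Subgroup G)) ∈ Q'.subgroupOf S := hx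
      rw [e, mem_bot] at this
      exact congrArg Subtype.val this)
  haveI : Nontrivial ↥(Q'.subgroupOf S ⊓ center ↥(S : Subgroup G)) := (Subgroup.nontrivial_iff_ne_bot _).2 hne
  obtain ⟨x, hx⟩ := exists_prime_orderOf_dvd_card' (G := ↥(Q'.subgroupOf S ⊓ center ↥(S : Subgroup G))) 2 (by
    obtain ⟨k, hk⟩ := IsPGroup.iff_card.1 (S.2.to_subgroup (Q'.subgroupOf S ⊓ center ↥(S : Subgroup G)))
    rcases k with _ | k
    · exact absurd (Finite.one_lt_card (α := ↥(Q'.subgroupOf S ⊓ center ↥(S : Subgroup G)))) (by rw [hk]; norm_num)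
    · rw [hk]; exact dvd_pow_self 2 k.succ_ne_zero)
  rw [← orderOf_coe, ← orderOf_coe] at hx
  obtain ⟨hxQ, hxZ⟩ := Subgroup.mem_inf.1 x.2
  set t : G := ((x : ↥(S : Subgroup G)) : G) with htdef
  have htT : t ∈ T := map_subtype_le _ hxQ
  have hSC : (S : Subgroup G) ≤ centralizer ({t} : Set G) := fun y hy =>
    mem_centralizer_singleton_iff.2 (congrArg Subtype.val (mem_center_iff.1 hxZ ⟨y, hy⟩))
  have hCS : centralizer ({t} : Set G) = S := S.3 (hA t htT hx) hSC
  have hSN : (S : Subgroup G) ≤ normalizer (Q' : Set G) := fun y hy => mem_nrm fun k hk => by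
    have := hnorm.conj_mem ⟨k, hS hk⟩ hk ⟨y, hy⟩
    exact this
  have hNS : normalizer (Q' : Set G) = S := by
    rw [← hCS] at hSN ⊢
    exact (coatom_eq (h.cent_coatom hx) hSN (h.max Q' hQ1 (twoPrime_of_pGroup hQp)).1).symm
  intro g hg
  rw [← hST, mem_subgroupOf, ← hNS]
  refine mem_nrm ?_
  rintro _ ⟨k, hk, rfl⟩
  exact ⟨g * k * g⁻¹, nrm_conj hg hk, by simp⟩

/-- hence they are not commutative -/
theorem Soc.not_comm_sylow (Q : Sylow 2 ↥T) (hc : IsMulCommutative (Q : Subgroup ↥T)) : False := by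
  haveI : Fact (Nat.Prime 2) := ⟨Nat.prime_two⟩
  haveI := h.simple
  have hN : normalizer ((Q : Subgroup ↥T) : Set ↥T) ≤ centralizer ((Q : Subgroup ↥T) : Set ↥T) := fun g hg =>
    mem_centralizer_iff.2 fun x hx => congrArg Subtype.val (hc.1.1 ⟨x, hx⟩ ⟨g, h.sylow_self hA Q g hg⟩)
  refine not_solvable_of_simple (T := T) (hna := h.nonab) ?_
  set K := (MonoidHom.transferSylow Q hN).ker
  haveI : K.Normal := MonoidHom.normal_ker _
  refine solvable_of_normal_quotient K (Cfsg.Agent.PF.isSolvable_of_odd _ (Nat.not_even_iff_odd.1 fun he =>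
    MonoidHom.not_dvd_card_ker_transferSylow Q hN he.two_dvd)) ?_
  haveI := Q.2.isNilpotent
  exact Group.isSolvable_of_isSolvable_injective
    (f := QuotientGroup.kerLift (MonoidHom.transferSylow Q hN)) (QuotientGroup.kerLift_injective _)

/-- Sylow 2-subgroups of order at most four do not occur -/
theorem Soc.eight_dvd : 8 ∣ Nat.card ↥T := by
  haveI : Fact (Nat.Prime 2) := ⟨Nat.prime_two⟩
  by_contra h8
  obtain ⟨Q⟩ := (inferInstance : Nonempty (Sylow 2 ↥T))
  obtain ⟨k, hk⟩ := IsPGroup.iff_card.1 Q.2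
  refine h.not_comm_sylow hA Q ?_
  have hk2 : k ≤ 2 := by
    by_contra hlt
    exact h8 ((pow_dvd_pow 2 (show 3 ≤ k by omega)).trans (hk ▸ (Q : Subgroup ↥T).card_subgroup_dvd_card))
  rcases (show k = 0 ∨ k = 1 ∨ k = 2 by omega) with rfl | rfl | rfl
  · haveI : IsCyclic ↥(Q : Subgroup ↥T) := by
      haveI : Subsingleton ↥(Q : Subgroup ↥T) := (Nat.card_eq_one_iff_unique.1 (by simpa using hk)).1
      infer_instance
    exact inferInstance
  · haveI : IsCyclic ↥(Q : Subgroup ↥T) := isCyclic_of_prime_card (p := 2) (by simpa using hk)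
    exact inferInstance
  · exact IsPGroup.isMulCommutative_of_card_eq_prime_sq hk

/-- nor of order eight, if the index is at most two -/
theorem Soc.false_of_eight (h16 : ¬ 16 ∣ Nat.card ↥T) (hidx : T.index ≤ 2) : False := by
  haveI := h.normal
  haveI : Fact (Nat.Prime 2) := ⟨Nat.prime_two⟩
  haveI := h.simple
  have h8 := h.eight_dvd hA
  obtain ⟨y, hy⟩ := exists_prime_orderOf_dvd_card' (G := ↥T) 2 ((by norm_num : 2 ∣ 8).trans h8)
  rw [← orderOf_coe] at hy
  set t : G := (y : G)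
  have htT : t ∈ T := y.2
  obtain ⟨g, hg, hgt⟩ := h.exists_fused hy
  set v := g * t * g⁻¹ with hv
  have hvT : v ∈ T := h.normal.conj_mem t htT g
  have hvo : orderOf v = 2 := by rw [hv, orderOf_conj_eq, hy]
  have ht2 := mul_self_of_two hy
  have hv2 := mul_self_of_two hvo
  set V := zpowers t ⊔ zpowers v with hV
  have htV : t ∈ V := mem_sup_left (mem_zpowers t)
  have hvV : v ∈ V := mem_sup_right (mem_zpowers v)
  have hcomm : ∀ a ∈ V, Commute a t ∧ Commute a v := by
    intro a ha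
    have h1 : V ≤ centralizer ({t} : Set G) ⊓ centralizer ({v} : Set G) := sup_le
      (zpowers_le.2 (Subgroup.mem_inf.2 ⟨mem_centralizer_singleton_iff.2 rfl, mem_centralizer_singleton_iff.2 hgt.symm.eq⟩))
      (zpowers_le.2 (Subgroup.mem_inf.2 ⟨mem_centralizer_singleton_iff.2 hgt.eq, mem_centralizer_singleton_iff.2 rfl⟩))
    exact ⟨mem_centralizer_singleton_iff.1 (Subgroup.mem_inf.1 (h1 ha)).1,
      mem_centralizer_singleton_iff.1 (Subgroup.mem_inf.1 (h1 ha)).2⟩
  have hVC : ∀ a ∈ V, ∀ b ∈ V, Commute a b := by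
    intro a ha b hb
    obtain ⟨hat, hav⟩ := hcomm a ha
    have : V ≤ centralizer ({a} : Set G) := sup_le
      (zpowers_le.2 (mem_centralizer_singleton_iff.2 hat.symm.eq))
      (zpowers_le.2 (mem_centralizer_singleton_iff.2 hav.symm.eq))
    exact (show Commute b a from mem_centralizer_singleton_iff.1 (this hb)).symm
  have hVT : V ≤ T := sup_le (zpowers_le.2 htT) (zpowers_le.2 hvT)
  have hVp : IsPGroup 2 ↥V := (hA t htT hy).to_le fun a ha => mem_centralizer_singleton_iff.2 (hcomm a ha).1.eq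
  have hV1 : V ≠ ⊥ := fun e => ne_one_of_two hy (mem_bot.1 (e ▸ htV))
  have hVco := h.max V hV1 (twoPrime_of_pGroup hVp)
  have hVtwo : ∀ a ∈ V, a ≠ 1 → orderOf a = 2 := by
    intro a ha ha1
    have h1 : ∀ b ∈ zpowers t, b * b = 1 := fun b hb => by
      obtain ⟨n, rfl⟩ := mem_zpowers_iff.1 hb
      rw [← (Commute.refl t).mul_zpow, ht2, _root_.one_zpow]
    have h2 : ∀ b ∈ zpowers v, b * b = 1 := fun b hb => by
      obtain ⟨n, rfl⟩ := mem_zpowers_iff.1 hb
      rw [← (Commute.refl v).mul_zpow, hv2, _root_.one_zpow]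
    refine orderOf_eq_prime ?_ ha1
    obtain ⟨b, hb, c, hc, rfl⟩ := (Cfsg.Lib.Coprime.mem_sup_of_le_normalizer
      (show zpowers v ≤ normalizer ((zpowers t : Subgroup G) : Set G) from zpowers_le.2
        (centralizer_le_normalizer_zpowers t (mem_centralizer_singleton_iff.2 hgt.eq)))).1 ha
    rw [pow_two, (hVC c (mem_sup_right hc) b (mem_sup_left hb)).mul_mul_mul_comm, h1 b hb, h2 c hc, one_mul]
  have hV4 : 4 ∣ Nat.card ↥V := by
    obtain ⟨k, hk⟩ := IsPGroup.iff_card.1 hVp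
    have h2 : 2 < Nat.card ↥V := by
      have hsub : ({1, t, v} : Set G) ⊆ V := by
        rw [Set.insert_subset_iff, Set.insert_subset_iff, Set.singleton_subset_iff]
        exact ⟨V.one_mem, htV, hvV⟩
      have h3 := Set.ncard_le_ncard hsub (Set.toFinite _)
      rw [Set.ncard_eq_three.2 ⟨1, t, v, (ne_one_of_two hy).symm, (ne_one_of_two hvo).symm, Ne.symm hg, rfl⟩,
        ← Nat.card_coe_set_eq] at h3
      exact h3
    rw [hk] at h2 ⊢
    exact pow_dvd_pow 2 (show 2 ≤ k by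
      by_contra hlt
      have := Nat.pow_le_pow_right two_pos (show k ≤ 1 by omega)
      omega)
  -- the normaliser contains the Sylow subgroups of `T` through `V`
  have hQa : ∀ a ∈ V, a ≠ 1 → centralizer ({a} : Set G) ⊓ T ≤ normalizer (V : Set G) ∧
      Nat.card ↥(centralizer ({a} : Set G) ⊓ T : Subgroup G) = 8 := by
    intro a ha ha1
    set K := centralizer ({a} : Set G) ⊓ T with hK
    obtain ⟨Q, hQ⟩ := h.cent_inf_sylow hA (hVT ha) (hVtwo a ha ha1)
    have hcard : Nat.card ↥K = Nat.card ↥(Q : Subgroup ↥T) := by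
      rw [hQ, hK, ← inf_subgroupOf_right]
      exact (Nat.card_congr (subgroupOfEquivOfLe inf_le_right).toEquiv).symm
    have hK8 : Nat.card ↥K = 8 := by
      obtain ⟨k, hk⟩ := IsPGroup.iff_card.1 Q.2
      have h3 : 3 ≤ k := by
        have hd : 8 ∣ Nat.card ↥(Q : Subgroup ↥T) :=
          Q.pow_dvd_card_of_pow_dvd_card (n := 3) h8
        rw [hk, show (8 : ℕ) = 2 ^ 3 by norm_num, Nat.pow_dvd_pow_iff_le_right (by norm_num)] at hd
        exact hd
      have h4 : k ≤ 3 := by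
        by_contra hlt
        exact h16 ((pow_dvd_pow 2 (show 4 ≤ k by omega)).trans (hk ▸ (Q : Subgroup ↥T).card_subgroup_dvd_card))
      rw [hcard, hk, show k = 3 by omega]
      rfl
    refine ⟨?_, hK8⟩
    have hVK : V ≤ K := le_inf (fun b hb => mem_centralizer_singleton_iff.2 (hVC b hb a ha).eq) hVT
    haveI : (V.subgroupOf K).Normal := by
      have hi : (V.subgroupOf K).index ∣ 2 := by
        have h1 := (V.subgroupOf K).card_mul_index
        rw [hK8, Nat.card_congr (subgroupOfEquivOfLe hVK).toEquiv] at h1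
        obtain ⟨m, hm⟩ := hV4
        rw [hm, mul_assoc] at h1
        exact ⟨m, by rw [mul_comm]; omega⟩
      rcases (Nat.dvd_prime Nat.prime_two).1 hi with e | e
      · rw [index_eq_one.1 e]
        infer_instance
      · exact normal_of_index_eq_two e
    exact fun k hk => mem_nrm fun b hb => ‹(V.subgroupOf K).Normal›.conj_mem ⟨b, hVK hb⟩ hb ⟨k, hk⟩
  -- distinct involutions give distinct Sylow subgroups
  have hdiff : ∀ a ∈ V, ∀ b ∈ V, a ≠ 1 → b ≠ 1 →
      centralizer ({a} : Set G) ⊓ T = centralizer ({b} : Set G) ⊓ T → a = b := by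
    intro a ha b hb ha1 hb1 e
    by_contra hab
    obtain ⟨Q, hQ⟩ := h.cent_inf_sylow hA (hVT ha) (hVtwo a ha ha1)
    refine h.not_comm_sylow hA Q ?_
    have hmem : ∀ q : ↥(Q : Subgroup ↥T), Commute ((q : ↥T) : G) a ∧ Commute ((q : ↥T) : G) b := by
      intro q
      have hqa : ((q : ↥T) : G) ∈ centralizer ({a} : Set G) := hQ.le q.2
      have hqb : ((q : ↥T) : G) ∈ centralizer ({b} : Set G) ⊓ T := e ▸ Subgroup.mem_inf.2 ⟨hqa, (q : ↥T).2⟩
      exact ⟨mem_centralizer_singleton_iff.1 hqa, mem_centralizer_singleton_iff.1 (Subgroup.mem_inf.1 hqb).1⟩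
    -- the centre has order four at least
    have haQ : (⟨a, hVT ha⟩ : ↥T) ∈ (Q : Subgroup ↥T) := hQ.ge (mem_centralizer_singleton_iff.2 rfl : a ∈ _)
    have hbQ : (⟨b, hVT hb⟩ : ↥T) ∈ (Q : Subgroup ↥T) :=
      hQ.ge (mem_centralizer_singleton_iff.2 (hVC b hb a ha).eq : b ∈ _)
    set Z := center ↥(Q : Subgroup ↥T)
    have haZ : (⟨_, haQ⟩ : ↥(Q : Subgroup ↥T)) ∈ Z :=
      mem_center_iff.2 fun q => Subtype.ext (Subtype.ext (hmem q).1.eq)
    have hbZ : (⟨_, hbQ⟩ : ↥(Q : Subgroup ↥T)) ∈ Z :=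
      mem_center_iff.2 fun q => Subtype.ext (Subtype.ext (hmem q).2.eq)
    have hQ8 : Nat.card ↥(Q : Subgroup ↥T) = 8 := by
      rw [hQ, ← inf_subgroupOf_right, Nat.card_congr (subgroupOfEquivOfLe inf_le_right).toEquiv]
      exact (hQa a ha ha1).2
    have hZ : 2 < Nat.card ↥Z := by
      have hsub : ({1, ⟨_, haQ⟩, ⟨_, hbQ⟩} : Set ↥(Q : Subgroup ↥T)) ⊆ Z := by
        rw [Set.insert_subset_iff, Set.insert_subset_iff, Set.singleton_subset_iff]
        exact ⟨Z.one_mem, haZ, hbZ⟩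
      have h3 := Set.ncard_le_ncard hsub (Set.toFinite _)
      rw [Set.ncard_eq_three.2 ⟨1, _, _, fun e1 => ha1 (congrArg (fun q : ↥(Q : Subgroup ↥T) => ((q : ↥T) : G)) e1).symm,
        fun e1 => hb1 (congrArg (fun q : ↥(Q : Subgroup ↥T) => ((q : ↥T) : G)) e1).symm,
        fun e1 => hab (congrArg (fun q : ↥(Q : Subgroup ↥T) => ((q : ↥T) : G)) e1), rfl⟩, ← Nat.card_coe_set_eq] at h3
      exact h3
    haveI : IsCyclic (↥(Q : Subgroup ↥T) ⧸ Z) := by
      have h1 := Z.card_mul_index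
      rw [hQ8] at h1
      have hd : Z.index ∣ 8 := ⟨Nat.card ↥Z, by rw [← h1, mul_comm]⟩
      obtain ⟨j, hj, e1⟩ := (Nat.dvd_prime_pow Nat.prime_two).1 (show Z.index ∣ 2 ^ 3 from hd)
      rw [e1] at h1
      interval_cases j
      · haveI : Subsingleton (↥(Q : Subgroup ↥T) ⧸ Z) :=
          (Nat.card_eq_one_iff_unique.1 (by rw [← Z.index_eq_card, e1, pow_zero])).1
        infer_instance
      · exact isCyclic_of_prime_card (p := 2) (by rw [← Z.index_eq_card, e1, pow_one])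
      all_goals omega
    exact ⟨⟨fun q q' => commutative_of_cyclic_center_quotient (QuotientGroup.mk' Z) (QuotientGroup.ker_mk' Z).le q q'⟩⟩
  set N := normalizer (V : Set G) with hN
  obtain ⟨hQt, hQt8⟩ := hQa t htV (ne_one_of_two hy)
  by_cases hNT : N ≤ T
  · by_cases hTtop : T = ⊤
    · -- centralisers inside the socle
      have e1 : ∀ a ∈ V, a ≠ 1 → centralizer ({a} : Set G) = N := fun a ha ha1 =>
        coatom_eq (h.cent_coatom (hVtwo a ha ha1))
          (by simpa [hTtop] using (hQa a ha ha1).1) hVco.1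
      refine hg (hdiff t htV v hvV (ne_one_of_two hy) (ne_one_of_two hvo) ?_).symm
      rw [e1 t htV (ne_one_of_two hy), e1 v hvV (ne_one_of_two hvo)]
    · have e := coatom_eq hVco hNT hTtop
      have hnorm : (V.subgroupOf T).Normal := ⟨fun a ha x =>
        show ((x * a * x⁻¹ : ↥T) : G) ∈ V from nrm_conj (K := V) (e.ge x.2) ha⟩
      rcases IsSimpleGroup.eq_bot_or_eq_top_of_normal _ hnorm with e1 | e1
      · refine hV1 (le_bot_iff.1 ?_)
        exact ((subgroupOf_eq_bot.1 e1).le_bot.trans' (le_inf le_rfl hVT))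
      · exact h.not_le (twoPrime_of_pGroup hVp) (subgroupOf_eq_top.1 e1)
  -- the normaliser leaves the socle
  have h16N : 16 ∣ Nat.card ↥N := by
    have h1 : 2 ∣ T.relIndex N := by
      have hd : T.relIndex N ∣ T.index := relIndex_dvd_index_of_normal T N
      have hne1 : T.relIndex N ≠ 1 := fun e => hNT (relIndex_eq_one.1 e)
      have hi0 : T.index ≠ 0 := Nat.ne_of_gt (Nat.pos_of_ne_zero (index_ne_zero_of_finite))
      have := Nat.le_of_dvd (Nat.pos_of_ne_zero hi0) hd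
      have h0 : T.relIndex N ≠ 0 := fun e => hi0 (Nat.eq_zero_of_zero_dvd (e ▸ hd))
      exact ⟨1, by omega⟩
    have h2 : 8 ∣ Nat.card ↥(T.subgroupOf N) := by
      rw [← inf_subgroupOf_right, Nat.card_congr (subgroupOfEquivOfLe inf_le_right).toEquiv, ← hQt8]
      exact Subgroup.card_dvd_of_le (le_inf inf_le_right hQt)
    rw [← (T.subgroupOf N).card_mul_index]
    exact (show 16 = 8 * 2 by norm_num) ▸ Nat.mul_dvd_mul h2 h1
  obtain ⟨R, hR⟩ := Sylow.exists_subgroup_card_pow_prime (G := ↥N) 2 (n := 4) h16N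
  obtain ⟨R₀, hR₀⟩ := (IsPGroup.of_card hR : IsPGroup 2 ↥R).exists_le_sylow
  set R' := (R₀ : Subgroup ↥N).map N.subtype with hR'
  have hR'p : IsPGroup 2 ↥R' := R₀.2.map _
  have hR'N : R' ≤ N := map_subtype_le _
  haveI : Group.IsNilpotent ↥R' := hR'p.isNilpotent
  have hVR : V ≤ R' := fun a ha => by
    haveI : (V.subgroupOf N).Normal := normal_in_normalizer
    obtain ⟨R₁, hR₁⟩ := (hVp.comap_of_injective N.subtype N.subtype_injective :
      IsPGroup 2 ↥(V.subgroupOf N)).exists_le_sylow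
    obtain ⟨c, hc⟩ := MulAction.exists_smul_eq ↥N R₁ R₀
    refine ⟨⟨a, le_normalizer ha⟩, ?_, rfl⟩
    show (⟨a, le_normalizer ha⟩ : ↥N) ∈ (R₀ : Subgroup ↥N)
    rw [← hc, Sylow.coe_subgroup_smul, Subgroup.mem_pointwise_smul_iff_inv_smul_mem]
    exact hR₁ (by simpa using ‹(V.subgroupOf N).Normal›.conj_mem ⟨a, le_normalizer ha⟩ ha c⁻¹)
  haveI : (V.subgroupOf R').Normal := ⟨fun a ha y => show ((y * a * y⁻¹ : ↥R') : G) ∈ V from
    nrm_conj (K := V) (hR'N y.2) ha⟩
  obtain ⟨⟨a, haR⟩, ha⟩ := ((Subgroup.bot_or_exists_ne_one (V.subgroupOf R' ⊓ center ↥R')).resolve_left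
    (Cfsg.Lib.Coprime.inf_center_ne_bot _ fun e => hV1 (le_bot_iff.1 fun x hx => by
      have : (⟨x, hVR hx⟩ : ↥R') ∈ V.subgroupOf R' := hx
      rw [e, mem_bot] at this
      exact congrArg Subtype.val this)))
  obtain ⟨hmem, ha1'⟩ := ha
  obtain ⟨haV, haZ⟩ := Subgroup.mem_inf.1 hmem
  have ha1 : a ≠ 1 := fun e => ha1' (Subtype.ext e)
  have haV' : a ∈ V := haV
  have hao := hVtwo a haV' ha1
  set C := centralizer ({a} : Set G) with hC
  have hRC : R' ≤ C := fun x hx =>
    mem_centralizer_singleton_iff.2 (congrArg Subtype.val (mem_center_iff.1 haZ ⟨x, hx⟩))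
  have hCR : R' = C := by
    refine Subgroup.eq_of_le_of_card_ge hRC ?_
    obtain ⟨j, hj⟩ := IsPGroup.iff_card.1 (hA a (hVT haV') hao)
    have h1 : 16 ≤ Nat.card ↥R' := by
      rw [hR', ← Nat.card_congr ((R₀ : Subgroup ↥N).equivMapOfInjective N.subtype N.subtype_injective).toEquiv]
      exact (show 16 = Nat.card ↥R by rw [hR]; rfl).le.trans (Subgroup.card_le_of_le hR₀)
    refine le_trans ?_ h1
    rw [hC, hj]
    refine (Nat.pow_le_pow_right two_pos (show j ≤ 4 from ?_)).trans (by norm_num)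
    by_contra hlt
    have hd : 2 ^ 5 ∣ Nat.card G := (pow_dvd_pow 2 (show 5 ≤ j by omega)).trans (hj ▸ Subgroup.card_subgroup_dvd_card _)
    rw [← T.card_mul_index] at hd
    have hi0 : T.index ≠ 0 := index_ne_zero_of_finite
    rcases (show T.index = 1 ∨ T.index = 2 by omega) with e | e <;> rw [e] at hd
    · exact h16 ((by norm_num : 16 ∣ 2 ^ 5).trans (by simpa using hd))
    · exact h16 (Nat.dvd_of_mul_dvd_mul_right two_pos (show 16 * 2 ∣ Nat.card ↥T * 2 from hd))
  have hNC : C = N := coatom_eq (h.cent_coatom hao) (hCR ▸ hR'N) hVco.1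
  obtain ⟨b, hbV, hb1, hba⟩ : ∃ b ∈ V, b ≠ 1 ∧ b ≠ a := by
    rcases eq_or_ne t a with e | e
    · exact ⟨v, hvV, ne_one_of_two hvo, fun e1 => hg (e1.trans e.symm)⟩
    · exact ⟨t, htV, ne_one_of_two hy, e⟩
  obtain ⟨hQb, hQb8⟩ := hQa b hbV hb1
  refine hba (hdiff b hbV a haV' hb1 ha1 (Subgroup.eq_of_le_of_card_ge (le_inf (hQb.trans hNC.ge) inf_le_right) ?_))
  rw [hQb8, (hQa a haV' ha1).2]

end

end Cfsg.Lib.MaxNorm
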