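import Cfsg.Agent.MaxNorm.TwoCase

/-!
The centralisers of the involutions of the socle are not all 2-groups.
-/

set_option autoImplicit false
set_option linter.unusedSectionVars false
set_option linter.style.haveILetI false

namespace Cfsg.Lib.MaxNorm

open Subgroup Matrix Cfsg.Lib.CITGroups Cfsg.Lib.CITExt Cfsg.Lib.Known.AutPSL2
open Cfsg.Lib.CITExt.TwoS (mem_nrm nrm_conj)

universe u

variable {G : Type u} [Group G] [Finite G] {T : Subgroup G}

theorem three_dvd_pow_pred {k : ℕ} (hk : Even k) : 3 ∣ 2 ^ k - 1 := by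
  obtain ⟨j, rfl⟩ := hk
  rw [← two_mul, pow_mul]
  have := Nat.sub_dvd_pow_sub_pow 4 1 j
  simpa using this

theorem three_dvd_pow_succ {k : ℕ} (hk : Odd k) : 3 ∣ 2 ^ k + 1 := by
  obtain ⟨j, rfl⟩ := hk
  rw [pow_succ, pow_mul, Nat.dvd_iff_mod_eq_zero, Nat.add_mod, Nat.mul_mod, Nat.pow_mod]
  norm_num

/-- a socle `L₃(4)` does not occur here -/
theorem Soc.false_three_four (h : Soc T) (hA : ∀ t ∈ T, orderOf t = 2 → IsPGroup 2 ↥(centralizer ({t} : Set G)))
    {F : Type} [Field F] [Fintype F] (hF : Fintype.card F = 4)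
    (e : ↥T ≃* Matrix.ProjectiveSpecialLinearGroup (Fin 3) F) : False := by
  classical
  haveI : Fact (Nat.Prime 2) := ⟨Nat.prime_two⟩
  haveI : CharP F 2 := charP_of_card_eq_prime_pow (p := 2) (f := 2) hF
  let up : F → F → F → Matrix.SpecialLinearGroup (Fin 3) F := fun a b c =>
    ⟨!![1, a, b; 0, 1, c; 0, 0, 1], by rw [Matrix.det_fin_three]; simp⟩
  have hup : ∀ a b c a' b' c', up a b c * up a' b' c' = up (a + a') (b + b' + a * c') (c + c') := by
    intro a b c a' b' c'
    refine Subtype.ext ?_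
    show (up a b c).1 * (up a' b' c').1 = _
    ext i j
    fin_cases i <;> fin_cases j <;> simp [up, Matrix.mul_apply, Fin.sum_univ_three] <;> ring
  have hup1 : up 0 0 0 = 1 := Subtype.ext (by
    show (up 0 0 0).1 = 1
    ext i j
    fin_cases i <;> fin_cases j <;> simp [up])
  let π₃ : Matrix.SpecialLinearGroup (Fin 3) F →* Matrix.ProjectiveSpecialLinearGroup (Fin 3) F :=
    QuotientGroup.mk' (Subgroup.center _)
  let U : Subgroup (Matrix.ProjectiveSpecialLinearGroup (Fin 3) F) :=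
    { carrier := Set.range fun x : F × F × F => π₃ (up x.1 x.2.1 x.2.2)
      one_mem' := ⟨(0, 0, 0), by simp [hup1]⟩
      mul_mem' := by
        rintro _ _ ⟨⟨a, b, c⟩, rfl⟩ ⟨⟨a', b', c'⟩, rfl⟩
        exact ⟨(a + a', b + b' + a * c', c + c'), by simp only [← map_mul, hup]⟩
      inv_mem' := by
        rintro _ ⟨⟨a, b, c⟩, rfl⟩
        refine ⟨(-a, -b + a * c, -c), ?_⟩
        refine eq_inv_of_mul_eq_one_right ?_
        simp only [← map_mul, hup]
        rw [show b + (-b + a * c) + a * -c = 0 by ring, add_neg_cancel, add_neg_cancel, hup1, map_one] }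
  have hπ : ∀ X Y, π₃ X = π₃ Y → X.1 0 0 = 1 → Y.1 0 0 = 1 → X = Y := by
    intro X Y hXY hX hY
    obtain ⟨z, hz, rfl⟩ := (QuotientGroup.mk'_eq_mk' _).1 hXY
    obtain ⟨r, -, hr⟩ := Matrix.SpecialLinearGroup.mem_center_iff.1 hz
    rw [Matrix.SpecialLinearGroup.coe_mul, ← hr, Matrix.scalar_apply, Matrix.mul_diagonal, hX, one_mul] at hY
    have : z = 1 := Subtype.ext (by rw [← hr, hY, Matrix.SpecialLinearGroup.coe_one, map_one])
    rw [this, mul_one]
  have hU64 : Nat.card ↥U = 2 ^ 6 := by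
    have hb : Function.Bijective fun x : F × F × F => (⟨π₃ (up x.1 x.2.1 x.2.2), x, rfl⟩ : ↥U) := by
      refine ⟨?_, fun ⟨_, x, hx⟩ => ⟨x, Subtype.ext hx⟩⟩
      rintro ⟨a, b, c⟩ ⟨a', b', c'⟩ hh
      have e1 := congrArg Subtype.val (hπ _ _ (congrArg Subtype.val hh) (by simp [up]) (by simp [up]))
      have h01 := congrFun (congrFun e1 0) 1
      have h02 := congrFun (congrFun e1 0) 2
      have h12 := congrFun (congrFun e1 1) 2
      simp [up] at h01 h02 h12
      simp [h01, h02, h12]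
    rw [← Nat.card_eq_of_bijective _ hb, Nat.card_prod, Nat.card_prod, Nat.card_eq_fintype_card, hF]
    rfl
  have hidx : ¬ 2 ∣ U.index := by
    have h1 := U.card_mul_index
    rw [Cfsg.Lib.Schur.LThreeFour.card_psl hF, hU64] at h1
    omega
  set Q : Sylow 2 (Matrix.ProjectiveSpecialLinearGroup (Fin 3) F) := (IsPGroup.of_card hU64).toSylow hidx with hQ
  obtain ⟨d, hd0, hd1⟩ : ∃ d : F, d ≠ 0 ∧ d ≠ 1 := by
    by_contra hc
    push Not at hc
    have hsub : (Finset.univ : Finset F) ⊆ {0, 1} := fun x _ => by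
      rcases eq_or_ne x 0 with rfl | hx
      · simp
      · simp [hc x hx]
    have := Finset.card_le_card hsub
    rw [Finset.card_univ, hF, Finset.card_pair zero_ne_one] at this
    omega
  let D : Matrix.SpecialLinearGroup (Fin 3) F :=
    ⟨!![d, 0, 0; 0, 1, 0; 0, 0, d⁻¹], by rw [Matrix.det_fin_three]; simp [hd0]⟩
  let ψ : Matrix.ProjectiveSpecialLinearGroup (Fin 3) F →* ↥T := e.symm.toMonoidHom
  have hψT : ∀ x : ↥T, ∃ y, ψ y = x := fun x => ⟨e x, e.symm_apply_apply x⟩
  set Q' : Sylow 2 ↥T := Q.mapSurjective (f := ψ) e.symm.surjective with hQ'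
  have hQ'c : (Q' : Subgroup ↥T) = U.map ψ := rfl
  have hDn : ψ (π₃ D) ∈ normalizer ((Q' : Subgroup ↥T) : Set ↥T) := by
    refine mem_nrm ?_
    rw [hQ'c]
    rintro _ ⟨_, ⟨⟨a, b, c⟩, rfl⟩, rfl⟩
    refine ⟨π₃ (up (d * a) (d * d * b) (d * c)), ⟨(d * a, d * d * b, d * c), rfl⟩, ?_⟩
    rw [← map_inv, ← map_mul, ← map_mul]
    congr 1
    rw [eq_mul_inv_iff_mul_eq, ← map_mul, ← map_mul]
    congr 1
    refine Subtype.ext ?_
    show (up (d * a) (d * d * b) (d * c)).1 * D.1 = D.1 * (up a b c).1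
    ext i j
    fin_cases i <;> fin_cases j <;> simp [up, D, Matrix.mul_apply, Fin.sum_univ_three] <;> field_simp
  have hmem := h.sylow_self hA Q' _ hDn
  rw [hQ'c] at hmem
  obtain ⟨y, ⟨⟨a, b, c⟩, rfl⟩, hy⟩ := hmem
  obtain ⟨z, hz, hz'⟩ := (QuotientGroup.mk'_eq_mk' _).1 (e.symm.injective hy)
  obtain ⟨r, -, hr⟩ := Matrix.SpecialLinearGroup.mem_center_iff.1 hz
  have h2 : (up a b c).1 * z.1 = D.1 := congrArg Subtype.val hz'
  rw [← hr, Matrix.scalar_apply] at h2
  have h00 := congrFun (congrFun h2 0) 0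
  have h11 := congrFun (congrFun h2 1) 1
  rw [Matrix.mul_diagonal] at h00 h11
  simp [up, D] at h00 h11
  exact hd1 (h00.symm.trans h11)

/-- some involution of the socle commutes with an element of odd prime order -/
theorem Soc.exists_odd_comm (h : Soc T) :
    ∃ (t z : G) (r : ℕ), t ∈ T ∧ orderOf t = 2 ∧ r.Prime ∧ r ≠ 2 ∧ orderOf z = r ∧ Commute z t := by
  classical
  haveI : Fact (Nat.Prime 2) := ⟨Nat.prime_two⟩
  haveI := h.simple
  haveI := h.normal
  by_contra hno
  have hA : ∀ t ∈ T, orderOf t = 2 → IsPGroup 2 ↥(centralizer ({t} : Set G)) := by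
    intro t htT ht
    rw [IsPGroup.iff_orderOf]
    rintro ⟨x, hx⟩
    rw [Subgroup.orderOf_mk]
    rcases Nat.eq_two_pow_or_exists_odd_prime_and_dvd (orderOf x) with ⟨k, hk⟩ | ⟨r, hr, hd, ho⟩
    · exact ⟨k, hk⟩
    exact absurd ⟨t, _, r, htT, ht, hr, fun e => by rw [e] at ho; exact absurd ho (by decide),
      orderOf_pow_orderOf_div (orderOf_pos x).ne' hd,
      (show Commute x t from mem_centralizer_singleton_iff.1 hx).pow_left _⟩ hno
  have hcit : CIT ↥T := by
    intro t ht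
    rw [IsPGroup.iff_orderOf]
    rintro ⟨x, hx⟩
    rw [Subgroup.orderOf_mk, ← orderOf_coe]
    obtain ⟨k, hk⟩ := IsPGroup.iff_orderOf.1 (hA t t.2 (by rw [orderOf_coe, ht]))
      ⟨(x : G), mem_centralizer_singleton_iff.2 (congrArg Subtype.val (mem_centralizer_singleton_iff.1 hx))⟩
    rw [Subgroup.orderOf_mk] at hk
    exact ⟨k, hk⟩
  have h8 := h.eight_dvd hA
  rcases Cfsg.Lib.CITGroups.classification_of (Cfsg.Lie.IsoSuzuki ↥T)
      (fun M hZ => Cfsg.Lib.SuzukiUnique.zassenhaus_iso (G := ↥T) (Ω := ↥T ⧸ M) hZ) hcit h.nonab with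
    ⟨F, i1, i2, hF, ⟨e⟩⟩ | ⟨F, i1, i2, hF, ⟨e⟩⟩ | ⟨F, i1, i2, m, hm, hF, ⟨e⟩⟩
  · rcases hF with h9 | ⟨n, hn⟩ | ⟨hp, k, hk⟩
    · have := h.field_prime (by rw [h9]; decide) e
      rw [h9] at this
      norm_num at this
    · -- commutative Sylow subgroups
      have hn1 : 1 ≤ n := by
        rcases n with _ | n
        · have := Fintype.one_lt_card (α := F)
          simp [hn] at this
        · omega
      haveI : CharP F 2 := charP_of_card_eq_prime_pow (p := 2) (f := n) hn
      obtain ⟨U, hU⟩ := exists_sylow_u 2 hn1 hn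
      refine h.not_comm_sylow hA (U.mapSurjective (f := e.symm.toMonoidHom) e.symm.surjective) ⟨⟨?_⟩⟩
      rintro ⟨_, a, ha, rfl⟩ ⟨_, b, hb, rfl⟩
      refine Subtype.ext ?_
      rw [SetLike.mem_coe, hU] at ha hb
      obtain ⟨x, rfl⟩ := ha
      obtain ⟨y, rfl⟩ := hb
      show e.symm _ * e.symm _ = e.symm _ * e.symm _
      rw [← map_mul, ← map_mul, ← map_mul, ← map_mul, mul_comm]
    · set p := Fintype.card F with hpdef
      haveI := Fact.mk hp
      haveI : CharP F p := charP_of_card_eq_prime_pow (p := p) (f := 1) (by rw [pow_one])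
      have hcard : Nat.gcd 2 (p - 1) * Nat.card ↥T = p * (p ^ 2 - 1) := by
        rw [Nat.card_congr e.toEquiv]
        exact Cfsg.Lib.Classical.SmallPSL.card_psl (q := p) rfl
      have hp7 : 7 ≤ p := by
        by_contra hlt
        have hp' : p = 2 ∨ p = 3 ∨ p = 5 := by
          have := hp.two_le
          rcases (show p = 2 ∨ p = 3 ∨ p = 4 ∨ p = 5 ∨ p = 6 by omega) with e1 | e1 | e1 | e1 | e1 <;>
            first | omega | (rw [e1] at hp; exact absurd hp (by norm_num))
        rcases hp' with e1 | e1 | e1 <;> rw [e1] at hcard <;> norm_num at hcard <;> omega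
      have hodd : p % 2 = 1 := (hp.eq_two_or_odd).resolve_left (by omega)
      have hg : Nat.gcd 2 (p - 1) = 2 := Nat.gcd_eq_left (by omega)
      rcases eq_or_ne p 7 with e7 | e7
      · refine h.false_of_eight hA ?_ (h.index_le_two hp e)
        rw [hg, e7] at hcard
        norm_num at hcard
        omega
      obtain ⟨n, hn3, hnodd, hn, hnm⟩ : ∃ n, 3 ∣ n ∧ Odd n ∧ 3 < n ∧ (n ∣ (p - 1) / 2 ∨ n ∣ (p + 1) / 2) := by
        have h3p : ¬ 3 ∣ p := fun hd => by
          have := (Nat.prime_dvd_prime_iff_eq Nat.prime_three hp).1 hd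
          omega
        rcases hk with hk | hk
        · have hk2 : 2 ≤ k := by
            by_contra hlt
            rcases (show k = 0 ∨ k = 1 by omega) with rfl | rfl <;> norm_num at hk <;> omega
          have hke : Even k := by
            rcases Nat.even_or_odd k with h1 | h1
            · exact h1
            · exact absurd (hk ▸ three_dvd_pow_succ h1) h3p
          obtain ⟨j, rfl⟩ : ∃ j, k = j + 1 := ⟨k - 1, by omega⟩
          refine ⟨2 ^ j + 1, three_dvd_pow_succ (by
            obtain ⟨i, hi⟩ := hke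
            exact ⟨i - 1, by omega⟩), ⟨2 ^ (j - 1), ?_⟩, ?_, Or.inr ?_⟩
          · rw [← pow_succ', show j - 1 + 1 = j by omega]
          · rw [pow_succ] at hk
            omega
          · rw [hk, pow_succ]
            exact dvd_of_eq (by omega)
        · have hk3 : 3 ≤ k := by
            by_contra hlt
            rcases (show k = 0 ∨ k = 1 ∨ k = 2 by omega) with rfl | rfl | rfl <;> norm_num at hk <;> omega
          have hko : Odd k := by
            rcases Nat.even_or_odd k with h1 | h1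
            · have := three_dvd_pow_pred h1
              rw [show 2 ^ k - 1 = p by omega] at this
              exact absurd this h3p
            · exact h1
          obtain ⟨j, rfl⟩ : ∃ j, k = j + 1 := ⟨k - 1, by omega⟩
          rw [pow_succ] at hk
          have h2j : 2 ^ j = 2 * 2 ^ (j - 1) := by rw [← pow_succ', show j - 1 + 1 = j by omega]
          refine ⟨2 ^ j - 1, three_dvd_pow_pred (by
            obtain ⟨i, hi⟩ := hko
            exact ⟨i, by omega⟩), ⟨2 ^ (j - 1) - 1, ?_⟩, ?_, Or.inl ?_⟩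
          · omega
          · omega
          · exact dvd_of_eq (by omega)
      obtain ⟨w, hw⟩ := (Cfsg.Lib.GLTwo.psl_spectrum (F := F) p n).2 (Or.inr (by rw [← hpdef, hg]; exact hnm))
      have hnp : n ≠ p := fun e1 => by
        have h3 := (Nat.prime_dvd_prime_iff_eq Nat.prime_three hp).1 (e1 ▸ hn3)
        omega
      obtain ⟨j, hj, hjw⟩ := exists_inverter p (by omega) (w := w) (by omega) (by rw [hw]; exact hnp)
      have hwo : orderOf ((e.symm w : ↥T) : G) = n := by rw [orderOf_coe, MulEquiv.orderOf_eq, hw]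
      have := h.inverted_prime (w := ((e.symm w : ↥T) : G)) (j := ((e.symm j : ↥T) : G)) (hwo ▸ hnodd)
        (fun e1 => by rw [e1, orderOf_one] at hwo; omega) (by rw [orderOf_coe, MulEquiv.orderOf_eq, hj])
        (by rw [← Subgroup.coe_inv, ← Subgroup.coe_mul, ← Subgroup.coe_mul, ← map_inv, ← map_mul, ← map_mul, hjw,
          map_inv, Subgroup.coe_inv])
      rw [hwo] at this
      have := (Nat.prime_dvd_prime_iff_eq Nat.prime_three this).1 hn3
      omega
  · exact h.false_three_four hA hF e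
  · -- Suzuki groups
    have Q : Cfsg.Lib.Suz.Par F m := ⟨hm, hF⟩
    have e' : ↥T ≃* ↥(Cfsg.Sz F m) := e.trans (Cfsg.Lib.Suz.lieEquiv Q).symm
    obtain ⟨k, hk⟩ := Cfsg.Lib.Suz.exists_unit_ne_one Q
    let S := (Cfsg.Lib.Suz.syl Q).mapSurjective (f := e'.symm.toMonoidHom) e'.symm.surjective
    have hS : (S : Subgroup ↥T) = (Cfsg.Lib.Suz.uSub Q).map e'.symm.toMonoidHom := rfl
    have hn : Cfsg.Lib.Suz.hHom Q k ∈ normalizer (Cfsg.Lib.Suz.uSub Q : Set ↥(Cfsg.Sz F m)) := by
      refine mem_nrm fun x hx => ?_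
      obtain ⟨a, b, rfl⟩ := Cfsg.Lib.Suz.exists_uu Q hx
      exact ⟨_, _, Cfsg.Lib.Suz.H_conj_T Q k a b⟩
    have hmem := h.sylow_self hA S (e'.symm (Cfsg.Lib.Suz.hHom Q k)) (by
      rw [hS]
      exact le_normalizer_map _ ⟨_, hn, rfl⟩)
    rw [hS] at hmem
    obtain ⟨y, hy, hye⟩ := hmem
    rw [e'.symm.injective hye] at hy
    obtain ⟨a, b, hab⟩ := Cfsg.Lib.Suz.exists_uu Q hy
    have h4 : Cfsg.Lib.Suz.hHom Q k ^ 4 = 1 := by rw [hab, Cfsg.Lib.Suz.uu_four]
    rw [← map_pow, ← map_one (Cfsg.Lib.Suz.hHom Q)] at h4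
    have hk4 := orderOf_dvd_of_pow_eq_one (Cfsg.Lib.Suz.hHom_injective Q h4)
    have hkodd : Odd (Fintype.card Fˣ) := by
      rw [Fintype.card_units, hF]
      exact ⟨2 ^ (2 * m) - 1, by rw [pow_succ]; have := Nat.two_pow_pos (2 * m); omega⟩
    have hko : Odd (orderOf k) := hkodd.of_dvd_nat (orderOf_dvd_card)
    exact hk (orderOf_eq_one_iff.1 (Nat.eq_one_of_dvd_coprimes (Nat.Coprime.pow_right 2
      (Nat.coprime_two_right.2 hko)) dvd_rfl (show orderOf k ∣ 2 ^ 2 from hk4)))

end Cfsg.Lib.MaxNorm
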